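import Cfsg.Agent.Lib.SL2Fpf.Decomp

/-!
# Multiplicative form of the module theorems
-/

set_option autoImplicit false
set_option linter.unusedSectionVars false

open scoped MatrixGroups
open Matrix Cfsg.Agent.Lib.SL2Fpf.Mat Cfsg.Agent.Lib.SL2Fpf.Rel Cfsg.Agent.Lib.SL2Fpf.Main1
  Cfsg.Agent.Lib.SL2Fpf.Main2 Cfsg.Agent.Lib.SL2Fpf.Decomp

namespace Cfsg.Agent.Lib.SL2Fpf.Bridge

variable {K : Type*} [Field K] [CharP K 2] [Fintype K]

/-- The additive module attached to a multiplicative action on a commutative group. -/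
@[reducible] def dma {A : Type*} [CommGroup A] (act : SL(2, K) →* MulAut A) :
    DistribMulAction SL(2, K) (Additive A) where
  smul l a := Additive.ofMul (act l a.toMul)
  one_smul a := by
    change Additive.ofMul (act 1 a.toMul) = a
    rw [map_one]; rfl
  mul_smul l l' a := by
    change Additive.ofMul (act (l * l') a.toMul) = Additive.ofMul (act l (act l' a.toMul))
    rw [map_mul]; rfl
  smul_zero l := by
    change Additive.ofMul (act l 1) = 0
    rw [map_one]; rfl
  smul_add l a b := by
    change Additive.ofMul (act l (a.toMul * b.toMul)) = _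
    rw [map_mul]; rfl

section

variable {A : Type*} [Group A] (hc : ∀ a b : A, a * b = b * a) (act : SL(2, K) →* MulAut A)
  {n : ℕ} (hK : Fintype.card K = 2 ^ n) (hn : 2 ≤ n)
  (hN : ∀ a : A, a * act x0 a * act (x0 * x0) a = 1)
include hc hK hn hN

theorem A_exp (hp : ∀ a : A, ∃ k : ℕ, a ^ (2 ^ k) = 1) (a : A) : a * a = 1 := by
  letI : CommGroup A := { (inferInstance : Group A) with mul_comm := hc }
  letI := dma act
  have hN' : Norm0 K (Additive A) := by
    intro m
    exact hN m.toMul
  have := exp_two hK hn hN' (fun m => by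
    obtain ⟨k, hk⟩ := hp m.toMul
    refine ⟨k, ?_⟩
    exact hk) (Additive.ofMul a)
  exact this

theorem A_faith (hp : ∀ a : A, ∃ k : ℕ, a ^ (2 ^ k) = 1) {Ω : Subgroup A}
    (st : ∀ (g : SL(2, K)) (z : A), z ∈ Ω → act g z ∈ Ω) {u₀ : A} (hu₀ : u₀ ∈ Ω) (hne : u₀ ≠ 1)
    {z : SL(2, K)} (hz : ∀ u ∈ Ω, act z u = u) : z = 1 := by
  letI : CommGroup A := { (inferInstance : Group A) with mul_comm := hc }
  letI := dma act
  have hN' : Norm0 K (Additive A) := by
    intro m
    exact hN m.toMul
  refine eq_one_of_trivial_on hK hn hN' (fun m => by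
    obtain ⟨k, hk⟩ := hp m.toMul
    refine ⟨k, ?_⟩
    exact hk) (Ω := Subgroup.toAddSubgroup Ω) (u₀ := Additive.ofMul u₀) ?_ ?_ ?_ ?_
  · intro g m hm
    exact st g m.toMul hm
  · exact hu₀
  · exact hne
  · intro u hu
    exact hz u.toMul hu

theorem A_dec [Finite A] (two : ∀ a : A, a * a = 1) :
    ∃ (k : ℕ) (φ : Fin k → (Fin 2 → K) → A) (p : Fin k → A → (Fin 2 → K)),
      (∀ i v v', φ i (v + v') = φ i v * φ i v') ∧
      (∀ (i : Fin k) (l : SL(2, K)) (v : Fin 2 → K),
        φ i ((l : Matrix (Fin 2) (Fin 2) K).mulVec v) = act l (φ i v)) ∧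
      (∀ i a b, p i (a * b) = p i a + p i b) ∧
      (∀ i j v, p i (φ j v) = if i = j then v else 0) ∧
      (∀ S : Subgroup A, (∀ i v, φ i v ∈ S) → ∀ a, a ∈ S) := by
  classical
  letI : CommGroup A := { (inferInstance : Group A) with mul_comm := hc }
  letI := dma act
  have hN' : Norm0 K (Additive A) := by
    intro m
    exact hN m.toMul
  have : Finite (Additive A) := inferInstanceAs (Finite A)
  obtain ⟨k, φ, h1, h2⟩ := decomposition hK hn hN' (fun m => two m.toMul)
  set Φ : (Fin k → (Fin 2 → K)) → Additive A := fun v => ∑ i, φ i (v i) with hΦ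
  let e := Equiv.ofBijective Φ h2
  have Φ_add : ∀ v v', Φ (v + v') = Φ v + Φ v' := by
    intro v v'
    simp only [hΦ, Pi.add_apply, map_add, Finset.sum_add_distrib]
  have e_add : ∀ x y, e.symm (x + y) = e.symm x + e.symm y := by
    intro x y
    apply e.injective
    rw [Equiv.apply_symm_apply]
    change x + y = Φ (e.symm x + e.symm y)
    rw [Φ_add]
    congr 1
    · exact (e.apply_symm_apply x).symm
    · exact (e.apply_symm_apply y).symm
  have e_single : ∀ (j : Fin k) (v : Fin 2 → K), e.symm (φ j v) = Pi.single j v := by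
    intro j v
    apply e.injective
    rw [Equiv.apply_symm_apply]
    change φ j v = Φ (Pi.single j v)
    simp only [hΦ]
    rw [Finset.sum_eq_single j]
    · simp
    · intro b _ hb
      simp [Pi.single_eq_of_ne hb]
    · simp
  refine ⟨k, fun i v => (φ i v).toMul, fun i a => e.symm (Additive.ofMul a) i, ?_, ?_, ?_, ?_, ?_⟩
  · intro i v v'
    change Additive.toMul (φ i (v + v')) = _
    rw [map_add]
    rfl
  · intro i l v
    change Additive.toMul (φ i _) = _
    rw [h1]
    rfl
  · intro i a b
    change e.symm (Additive.ofMul a + Additive.ofMul b) i = _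
    rw [e_add]
    rfl
  · intro i j v
    change e.symm (φ j v) i = _
    rw [e_single]
    by_cases hij : i = j
    · subst hij
      simp
    · simp [hij]
  · intro S hS a
    have hS' : ∀ i v, φ i v ∈ Subgroup.toAddSubgroup S := hS
    have : Additive.ofMul a ∈ Subgroup.toAddSubgroup S := by
      have e1 : Additive.ofMul a = Φ (e.symm (Additive.ofMul a)) := (e.apply_symm_apply _).symm
      rw [e1]
      exact AddSubgroup.sum_mem _ (fun i _ => hS' i _)
    exact this

end

end Cfsg.Agent.Lib.SL2Fpf.Bridge
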