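import Cfsg.Agent.Lib.SL2Fpf.Main2

/-!
# Direct sum decomposition into natural modules
-/

set_option autoImplicit false
set_option linter.unusedSectionVars false

open scoped MatrixGroups
open Matrix Cfsg.Agent.Lib.SL2Fpf.Mat Cfsg.Agent.Lib.SL2Fpf.Rel Cfsg.Agent.Lib.SL2Fpf.Main1
  Cfsg.Agent.Lib.SL2Fpf.Main2

namespace Cfsg.Agent.Lib.SL2Fpf.Decomp

variable {K : Type*} [Field K] [CharP K 2] [Fintype K]
variable {M : Type*} [AddCommGroup M] [DistribMulAction SL(2, K) M]

local notation "W" => (wm : SL(2, K))

lemma mulVec_col (l g : SL(2, K)) : (l : Matrix (Fin 2) (Fin 2) K).mulVec (col g) = col (l * g) := by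
  apply col_ext
  · simp [Matrix.mulVec, dotProduct, Fin.sum_univ_two, col0, col1, mul00]
  · simp [Matrix.mulVec, dotProduct, Fin.sum_univ_two, col0, col1, mul10]

lemma stable_top : Stable K (⊤ : AddSubgroup M) := fun _ _ _ => AddSubgroup.mem_top _

/-- The scalar action on fixed vectors. -/
noncomputable def scal (c : K) (y : fixSub K (⊤ : AddSubgroup M)) : fixSub K (⊤ : AddSubgroup M) :=
  open Classical in
  if hc : c = 0 then 0 else ⟨hh c • y.1, ⟨AddSubgroup.mem_top _, fixS_hh y.2.2 hc⟩⟩

lemma scal_zero (y : fixSub K (⊤ : AddSubgroup M)) : scal 0 y = 0 := by simp [scal]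

lemma scal_coe {c : K} (hc : c ≠ 0) (y : fixSub K (⊤ : AddSubgroup M)) : ((scal c y : fixSub K (⊤ : AddSubgroup M)) : M) = hh c • y.1 := by
  simp [scal, hc]

/-- The module structure. -/
@[reducible] noncomputable def moduleE (hN : Norm0 K M) (two : ∀ m : M, m + m = 0) :
    Module K (fixSub K (⊤ : AddSubgroup M)) where
  smul := scal
  one_smul := by
    intro y
    apply Subtype.ext
    change ((scal 1 y : fixSub K (⊤ : AddSubgroup M)) : M) = _
    rw [scal_coe one_ne_zero, hh_one, one_smul]
  mul_smul := by
    intro a b y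
    change scal (a * b) y = scal a (scal b y)
    by_cases ha : a = 0
    · subst ha; simp [scal_zero]
    by_cases hb : b = 0
    · subst hb
      simp only [mul_zero, scal_zero]
      apply Subtype.ext
      rw [scal_coe ha]
      simp
    apply Subtype.ext
    rw [scal_coe (mul_ne_zero ha hb), scal_coe ha, scal_coe hb, ← hh_mul ha hb, mul_smul]
  smul_zero := by
    intro a
    change scal a 0 = 0
    by_cases ha : a = 0
    · subst ha; simp [scal_zero]
    · apply Subtype.ext
      rw [scal_coe ha]
      simp
  smul_add := by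
    intro a x y
    change scal a (x + y) = scal a x + scal a y
    by_cases ha : a = 0
    · subst ha; simp [scal_zero]
    · apply Subtype.ext
      rw [scal_coe ha]
      simp only [AddSubgroup.coe_add, scal_coe ha, smul_add]
  add_smul := by
    intro a b y
    change scal (a + b) y = scal a y + scal b y
    by_cases ha : a = 0
    · subst ha; simp [scal_zero]
    by_cases hb : b = 0
    · subst hb; simp [scal_zero]
    by_cases hab : a + b = 0
    · have e : a = b := by
        have h2 : (2 : K) = 0 := two_zero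
        linear_combination hab - b * h2
      subst e
      rw [hab, scal_zero]
      apply Subtype.ext
      simp only [AddSubgroup.coe_add, scal_coe ha, AddSubgroup.coe_zero]
      rw [two]
    · apply Subtype.ext
      simp only [AddSubgroup.coe_add]
      rw [scal_coe hab, scal_coe ha, scal_coe hb]
      exact hh_add_smul hN stable_top (fun z _ => two z) (AddSubgroup.mem_top _) y.2.2 ha hb hab
  zero_smul := by
    intro y
    exact scal_zero y

theorem decomposition [Finite M] {n : ℕ} (hK : Fintype.card K = 2 ^ n) (hn : 2 ≤ n) (hN : Norm0 K M)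
    (two : ∀ m : M, m + m = 0) :
    ∃ (k : ℕ) (φ : Fin k → (Fin 2 → K) →+ M),
      (∀ (i : Fin k) (l : SL(2, K)) (v : Fin 2 → K), φ i ((l : Matrix (Fin 2) (Fin 2) K).mulVec v) = l • φ i v) ∧
      Function.Bijective (fun v : Fin k → (Fin 2 → K) => ∑ i, φ i (v i)) := by
  classical
  letI : Module K (fixSub K (⊤ : AddSubgroup M)) := moduleE hN two
  have smul_def : ∀ (c : K) (y : fixSub K (⊤ : AddSubgroup M)), c • y = scal c y := fun _ _ => rfl
  have : Finite (fixSub K (⊤ : AddSubgroup M)) := inferInstance
  have : Module.Finite K (fixSub K (⊤ : AddSubgroup M)) := Module.Finite.of_finite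
  let b := Module.finBasis K (fixSub K (⊤ : AddSubgroup M))
  -- the maps
  let phi : fixSub K (⊤ : AddSubgroup M) → (Fin 2 → K) →+ M := fun y =>
    AddMonoidHom.mk' (fun v => ((v 0 • y : fixSub K (⊤ : AddSubgroup M)) : M) + W • ((v 1 • y : fixSub K (⊤ : AddSubgroup M)) : M)) (by
      intro v v'
      simp only [Pi.add_apply, add_smul, AddSubgroup.coe_add, smul_add]
      abel)
  have phi_apply : ∀ y v, phi y v = ((v 0 • y : fixSub K (⊤ : AddSubgroup M)) : M) + W • ((v 1 • y : fixSub K (⊤ : AddSubgroup M)) : M) := fun _ _ => rfl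
  -- a general element applied to a fixed vector
  have claimA : ∀ (g : SL(2, K)) (y : fixSub K (⊤ : AddSubgroup M)), g • (y : M) = phi y (col g) := by
    intro g y
    have hy : ∀ d : K, (al d : SL(2, K)) • (y : M) - y ∈ (⊥ : AddSubgroup M) := by
      intro d'; rw [AddSubgroup.mem_bot, y.2.2 d', sub_self]
    have h2 : ∀ g' : SL(2, K), g' • (y : M) + g' • (y : M) ∈ (⊥ : AddSubgroup M) := by
      intro g'; rw [AddSubgroup.mem_bot]; exact two _
    rw [phi_apply, col0, col1, smul_def, smul_def]
    by_cases ha : g.1 0 0 = 0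
    · have hb : g.1 1 0 ≠ 0 := by
        intro hb
        apply col_ne_zero g
        apply col_ext
        · rw [col0, ha]; rfl
        · rw [col1, hb]; rfl
      have := rel_col_zero (stable_bot (K := K)) hy ha hb
      rw [AddSubgroup.mem_bot, sub_eq_zero, mul_smul] at this
      rw [this, ha, scal_zero, scal_coe hb]
      simp
    · by_cases hb : g.1 1 0 = 0
      · have := rel_col_one (stable_bot (K := K)) hy ha hb
        rw [AddSubgroup.mem_bot, sub_eq_zero] at this
        rw [this, hb, scal_zero, scal_coe ha]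
        simp
      · have := rel_gen hN (stable_bot (K := K)) hy h2 ha hb
        rw [AddSubgroup.mem_bot, mul_smul] at this
        have e := solve3 this (two _) (two _)
        rw [e, scal_coe ha, scal_coe hb]
  have equiv : ∀ (y : fixSub K (⊤ : AddSubgroup M)) (l : SL(2, K)) (v : Fin 2 → K),
      phi y ((l : Matrix (Fin 2) (Fin 2) K).mulVec v) = l • phi y v := by
    intro y l v
    by_cases hv : v = 0
    · subst hv
      simp
    · obtain ⟨g, rfl⟩ := exists_col hv
      rw [mulVec_col, ← claimA, ← claimA, mul_smul]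
  -- the sum map
  refine ⟨Module.finrank K (fixSub K (⊤ : AddSubgroup M)), fun i => phi (b i), fun i l v => equiv _ l v, ?_⟩
  have hsum : ∀ v : Fin (Module.finrank K (fixSub K (⊤ : AddSubgroup M))) → (Fin 2 → K),
      ∑ i, phi (b i) (v i) = ((∑ i, v i 0 • b i : fixSub K (⊤ : AddSubgroup M)) : M)
        + W • ((∑ i, v i 1 • b i : fixSub K (⊤ : AddSubgroup M)) : M) := by
    intro v
    simp only [phi_apply, Finset.sum_add_distrib, AddSubgroup.val_finset_sum, Finset.smul_sum]
  constructor
  · -- injective
    intro v v' h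
    simp only at h
    -- additive
    have hadd : ∑ i, phi (b i) ((v - v') i) = 0 := by
      have : ∀ i, phi (b i) ((v - v') i) = phi (b i) (v i) - phi (b i) (v' i) := by
        intro i
        rw [Pi.sub_apply, map_sub]
      simp only [this, Finset.sum_sub_distrib, h, sub_self]
    rw [hsum] at hadd
    set A := ∑ i, (v - v') i 0 • b i with hA
    set B := ∑ i, (v - v') i 1 • b i with hB
    have e1 : W • (B : M) = A := by
      have := solve3 (a := (W • (B : M))) (b := (A : M)) (c := 0) (by rw [add_zero, add_comm]; exact hadd) (two _) (by simp)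
      rw [this, add_zero]
    have B0 : (B : M) = 0 := by
      apply eq_zero_of_fixS_wm hN stable_top (fun z _ => two z) (AddSubgroup.mem_top _) B.2.2
      rw [e1]
      exact A.2.2
    have A0 : (A : M) = 0 := by
      rw [← e1, B0, smul_zero]
    have li := b.linearIndependent
    rw [Fintype.linearIndependent_iff] at li
    have c0 : ∀ i, (v - v') i 0 = 0 := li _ (Subtype.ext A0)
    have c1 : ∀ i, (v - v') i 1 = 0 := li _ (Subtype.ext B0)
    have : v - v' = 0 := by
      funext i j
      fin_cases j
      · exact c0 i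
      · exact c1 i
    exact sub_eq_zero.mp this
  · -- surjective
    intro m
    obtain ⟨z₁, z₂, -, f₁, -, f₂, rfl⟩ := semisimple hK hn hN (stable_top (K := K)) (fun z _ => two z) m (AddSubgroup.mem_top _)
    let y₁ : fixSub K (⊤ : AddSubgroup M) := ⟨z₁, AddSubgroup.mem_top _, f₁⟩
    let y₂ : fixSub K (⊤ : AddSubgroup M) := ⟨z₂, AddSubgroup.mem_top _, f₂⟩
    refine ⟨fun i => ![b.repr y₁ i, b.repr y₂ i], ?_⟩
    simp only
    rw [hsum]
    have e1 : ∑ i, (![b.repr y₁ i, b.repr y₂ i] : Fin 2 → K) 0 • b i = y₁ := by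
      simpa using b.sum_repr y₁
    have e2 : ∑ i, (![b.repr y₁ i, b.repr y₂ i] : Fin 2 → K) 1 • b i = y₂ := by
      simpa using b.sum_repr y₂
    rw [e1, e2]

end Cfsg.Agent.Lib.SL2Fpf.Decomp
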