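import Mathlib

/-!
# Pure group lemmas on elements of order three acting without fixed points on a normal subgroup
-/

set_option autoImplicit false
set_option linter.unusedSectionVars false

open scoped commutatorElement

namespace Cfsg.Agent.Lib.SL2Fpf.Pure

variable {G : Type*} [Group G] {Q : Subgroup G}

/-- An element with cube one acting without fixed points on `Q`. -/
structure Fpf3 (Q : Subgroup G) (y : G) : Prop where
  cube : y * y * y = 1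
  fpf : ∀ q ∈ Q, y * q * y⁻¹ = q → q = 1

lemma Fpf3.inv {y : G} (h : Fpf3 Q y) : Fpf3 Q y⁻¹ := by
  refine ⟨?_, ?_⟩
  · have : y⁻¹ * y⁻¹ * y⁻¹ = (y * y * y)⁻¹ := by group
    rw [this, h.cube, inv_one]
  · intro q hq e
    apply h.fpf q hq
    have : y * q * y⁻¹ = y * (y⁻¹ * q * y⁻¹⁻¹) * y⁻¹ := by
      rw [e]
    rw [this]
    group

lemma Fpf3.conj [hn : Q.Normal] {y : G} (h : Fpf3 Q y) (g : G) : Fpf3 Q (g * y * g⁻¹) := by
  refine ⟨?_, ?_⟩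
  · have : g * y * g⁻¹ * (g * y * g⁻¹) * (g * y * g⁻¹) = g * (y * y * y) * g⁻¹ := by group
    rw [this, h.cube]
    group
  · intro q hq e
    have hq' : g⁻¹ * q * g ∈ Q := by
      have := hn.conj_mem q hq g⁻¹
      simpa using this
    have e1 : g⁻¹ * q * g = 1 := by
      apply h.fpf _ hq'
      calc y * (g⁻¹ * q * g) * y⁻¹ = g⁻¹ * (g * y * g⁻¹ * q * (g * y * g⁻¹)⁻¹) * g := by group
        _ = g⁻¹ * q * g := by rw [e]
    calc q = g * (g⁻¹ * q * g) * g⁻¹ := by group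
      _ = 1 := by rw [e1]; group

lemma norm_id [Finite G] [hn : Q.Normal] {y : G} (h : Fpf3 Q y) {u : G} (hu : u ∈ Q) :
    u * (y * u * y⁻¹) * (y * y * u * (y * y)⁻¹) = 1 := by
  let f : Q → Q := fun q => ⟨q.1⁻¹ * (y * q.1 * y⁻¹), Q.mul_mem (Q.inv_mem q.2) (hn.conj_mem _ q.2 y)⟩
  have finj : Function.Injective f := by
    intro q₁ q₂ e
    have e' : q₁.1⁻¹ * (y * q₁.1 * y⁻¹) = q₂.1⁻¹ * (y * q₂.1 * y⁻¹) := congrArg Subtype.val e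
    have hr : q₂.1 * q₁.1⁻¹ = 1 := by
      apply h.fpf _ (Q.mul_mem q₂.2 (Q.inv_mem q₁.2))
      have e2 : y * q₁.1 * y⁻¹ = q₁.1 * (q₂.1⁻¹ * (y * q₂.1 * y⁻¹)) := by
        rw [← e']; group
      calc y * (q₂.1 * q₁.1⁻¹) * y⁻¹ = (y * q₂.1 * y⁻¹) * (y * q₁.1 * y⁻¹)⁻¹ := by group
        _ = (y * q₂.1 * y⁻¹) * (q₁.1 * (q₂.1⁻¹ * (y * q₂.1 * y⁻¹)))⁻¹ := by rw [e2]
        _ = q₂.1 * q₁.1⁻¹ := by group
    apply Subtype.ext
    exact (mul_inv_eq_one.mp hr).symm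
  have fsurj : Function.Surjective f := Finite.injective_iff_surjective.mp finj
  obtain ⟨q, hq⟩ := fsurj ⟨u, hu⟩
  have hu' : u = q.1⁻¹ * (y * q.1 * y⁻¹) := (congrArg Subtype.val hq).symm
  rw [hu']
  have c : y * y * y = 1 := h.cube
  have : q.1⁻¹ * (y * q.1 * y⁻¹) * (y * (q.1⁻¹ * (y * q.1 * y⁻¹)) * y⁻¹) * (y * y * (q.1⁻¹ * (y * q.1 * y⁻¹)) * (y * y)⁻¹)
      = q.1⁻¹ * (y * y * y) * q.1 * (y * y * y)⁻¹ := by
    group
  rw [this, c]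
  group

lemma comm_id [Finite G] [hn : Q.Normal] {y : G} (h : Fpf3 Q y) {u : G} (hu : u ∈ Q) :
    u * (y * u * y⁻¹) = (y * u * y⁻¹) * u := by
  set w₁ := y * u * y⁻¹ with hw₁
  set w₂ := y * y * u * (y * y)⁻¹ with hw₂
  have hc : y * y * y = 1 := h.cube
  have hy₁ : y * w₁ * y⁻¹ = w₂ := by rw [hw₁, hw₂]; group
  have hy₂ : y * w₂ * y⁻¹ = u := by
    have : y * w₂ * y⁻¹ = (y * y * y) * u * (y * y * y)⁻¹ := by rw [hw₂]; group
    rw [this, hc]; group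
  have N₁ : u * w₁ * w₂ = 1 := norm_id h hu
  have hw₁m : w₁ ∈ Q := hn.conj_mem u hu y
  have hv : u * w₁ ∈ Q := Q.mul_mem hu hw₁m
  have N₂ := norm_id h hv
  have e1 : y * (u * w₁) * y⁻¹ = w₁ * w₂ := by
    calc y * (u * w₁) * y⁻¹ = (y * u * y⁻¹) * (y * w₁ * y⁻¹) := by group
      _ = w₁ * w₂ := by rw [hy₁]
  have e2 : y * y * (u * w₁) * (y * y)⁻¹ = w₂ * u := by
    calc y * y * (u * w₁) * (y * y)⁻¹ = y * (y * (u * w₁) * y⁻¹) * y⁻¹ := by group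
      _ = y * (w₁ * w₂) * y⁻¹ := by rw [e1]
      _ = (y * w₁ * y⁻¹) * (y * w₂ * y⁻¹) := by group
      _ = w₂ * u := by rw [hy₁, hy₂]
  rw [e1, e2] at N₂
  have w₂eq : w₂ = w₁⁻¹ * u⁻¹ := by
    have : u * w₁ * w₂ = 1 := N₁
    calc w₂ = (u * w₁)⁻¹ * (u * w₁ * w₂) := by group
      _ = w₁⁻¹ * u⁻¹ := by rw [this]; group
  rw [w₂eq] at N₂
  have : u * w₁ * u⁻¹ * w₁⁻¹ = 1 := by
    calc u * w₁ * u⁻¹ * w₁⁻¹ = u * w₁ * (w₁ * (w₁⁻¹ * u⁻¹)) * (w₁⁻¹ * u⁻¹ * u) := by group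
      _ = 1 := by
        rw [← N₂]
  calc u * w₁ = (u * w₁ * u⁻¹ * w₁⁻¹) * (w₁ * u) := by group
    _ = w₁ * u := by rw [this, one_mul]

/-- The central elements of `Q`. -/
def IsZ (Q : Subgroup G) (z : G) : Prop := z ∈ Q ∧ ∀ q ∈ Q, z * q = q * z

/-- The second centre of `Q`. -/
def InA (Q : Subgroup G) (a : G) : Prop := a ∈ Q ∧ ∀ b ∈ Q, IsZ Q ⁅a, b⁆

lemma IsZ.conj [hn : Q.Normal] {z : G} (h : IsZ Q z) (g : G) : IsZ Q (g * z * g⁻¹) := by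
  refine ⟨hn.conj_mem _ h.1 g, ?_⟩
  intro q hq
  have hq' : g⁻¹ * q * g ∈ Q := by
    have := hn.conj_mem q hq g⁻¹
    simpa using this
  have := h.2 _ hq'
  calc g * z * g⁻¹ * q = g * (z * (g⁻¹ * q * g)) * g⁻¹ := by group
    _ = g * ((g⁻¹ * q * g) * z) * g⁻¹ := by rw [this]
    _ = q * (g * z * g⁻¹) := by group

lemma InA.conj [hn : Q.Normal] {a : G} (h : InA Q a) (g : G) : InA Q (g * a * g⁻¹) := by
  refine ⟨hn.conj_mem _ h.1 g, ?_⟩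
  intro b hb
  have hb' : g⁻¹ * b * g ∈ Q := by
    have := hn.conj_mem b hb g⁻¹
    simpa using this
  have := (h.2 _ hb').conj g
  have e : g * ⁅a, g⁻¹ * b * g⁆ * g⁻¹ = ⁅g * a * g⁻¹, b⁆ := by
    simp only [commutatorElement_def]
    group
  rwa [e] at this

lemma comm_aux {a b a' b' c₁ c₂ : G} (h : a * b * (a' * b') = a' * b' * (a * b)) (haa : a * a' = a' * a)
    (hbb : b * b' = b' * b) (h1 : c₁ = a' * b * a'⁻¹ * b⁻¹) (h2 : c₂ = a * b' * a⁻¹ * b'⁻¹)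
    (c1a : c₁ * a = a * c₁) (c2a' : c₂ * a' = a' * c₂) : c₂ = c₁ := by
  have e1 : b * a' = c₁⁻¹ * (a' * b) := by rw [h1]; group
  have e2 : b' * a = c₂⁻¹ * (a * b') := by rw [h2]; group
  have c1a' : a * c₁⁻¹ = c₁⁻¹ * a := by
    calc a * c₁⁻¹ = c₁⁻¹ * (c₁ * a) * c₁⁻¹ := by group
      _ = c₁⁻¹ * (a * c₁) * c₁⁻¹ := by rw [c1a]
      _ = c₁⁻¹ * a := by group
  have c2a'' : a' * c₂⁻¹ = c₂⁻¹ * a' := by
    calc a' * c₂⁻¹ = c₂⁻¹ * (c₂ * a') * c₂⁻¹ := by group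
      _ = c₂⁻¹ * (a' * c₂) * c₂⁻¹ := by rw [c2a']
      _ = c₂⁻¹ * a' := by group
  have L : a * b * (a' * b') = c₁⁻¹ * (a * a' * b * b') := by
    calc a * b * (a' * b') = a * (b * a') * b' := by group
      _ = a * (c₁⁻¹ * (a' * b)) * b' := by rw [e1]
      _ = (a * c₁⁻¹) * (a' * b) * b' := by group
      _ = (c₁⁻¹ * a) * (a' * b) * b' := by rw [c1a']
      _ = c₁⁻¹ * (a * a' * b * b') := by group
  have R : a' * b' * (a * b) = c₂⁻¹ * (a * a' * b * b') := by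
    calc a' * b' * (a * b) = a' * (b' * a) * b := by group
      _ = a' * (c₂⁻¹ * (a * b')) * b := by rw [e2]
      _ = (a' * c₂⁻¹) * (a * b') * b := by group
      _ = (c₂⁻¹ * a') * (a * b') * b := by rw [c2a'']
      _ = c₂⁻¹ * (a' * a) * (b' * b) := by group
      _ = c₂⁻¹ * (a * a') * (b * b') := by rw [haa, hbb]
      _ = c₂⁻¹ * (a * a' * b * b') := by group
  rw [L, R] at h
  have := mul_right_cancel h
  exact inv_injective this.symm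

section
variable [Finite G] [hn : Q.Normal]

/-- `y` is self-adjoint for the commutator pairing. -/
lemma selfadj {y a b : G} (hy : Fpf3 Q y) (ha : InA Q a) (hb : b ∈ Q) :
    ⁅a, y * b * y⁻¹⁆ = ⁅y * a * y⁻¹, b⁆ := by
  have hb' : y * b * y⁻¹ ∈ Q := hn.conj_mem b hb y
  have ha' := ha.conj y
  have e : y * (a * b) * y⁻¹ = (y * a * y⁻¹) * (y * b * y⁻¹) := by group
  have h0 := comm_id hy (Q.mul_mem ha.1 hb)
  rw [e] at h0
  have haa := comm_id hy ha.1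
  have hbb := comm_id hy hb
  refine comm_aux h0 haa hbb (commutatorElement_def _ _) (commutatorElement_def _ _) ?_ ?_
  · exact (ha'.2 b hb).2 a ha.1
  · exact (ha.2 _ hb').2 _ ha'.1

/-- The pairing turns the action of `y` on the left into the inverse action on values. -/
lemma star {y a b : G} (hy : Fpf3 Q y) (ha : InA Q a) (hb : b ∈ Q) :
    ⁅y * a * y⁻¹, b⁆ = y⁻¹ * ⁅a, b⁆ * y := by
  have E1 : ∀ a₀ : G, InA Q a₀ → ⁅y * (y * a₀ * y⁻¹) * y⁻¹, b⁆ = y * ⁅a₀, b⁆ * y⁻¹ := by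
    intro a₀ ha₀
    rw [← selfadj hy (ha₀.conj y) hb]
    simp only [commutatorElement_def]
    group
  have h := E1 _ (ha.conj y)
  have e : y * (y * (y * a * y⁻¹) * y⁻¹) * y⁻¹ = a := by
    have : y * (y * (y * a * y⁻¹) * y⁻¹) * y⁻¹ = (y * y * y) * a * (y * y * y)⁻¹ := by group
    rw [this, hy.cube]
    group
  rw [e] at h
  rw [h]
  group

/-- Elements of order three commute on the values of the pairing. -/
theorem zeta_fix {y₁ y₂ a b : G} (h₁ : Fpf3 Q y₁) (h₂ : Fpf3 Q y₂) (ha : InA Q a) (hb : b ∈ Q) :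
    ((y₁⁻¹ * y₂ * y₁) * (y₁ * y₂⁻¹ * y₁⁻¹)) * ⁅a, b⁆ * ((y₁⁻¹ * y₂ * y₁) * (y₁ * y₂⁻¹ * y₁⁻¹))⁻¹ = ⁅a, b⁆ := by
  set t := ⁅a, b⁆ with ht
  have W1 := star (h₂.conj y₁) ha hb
  set a₁ := y₁⁻¹ * a * y₁⁻¹⁻¹ with ha₁
  have s1 := star h₁.inv ha hb
  set a₂ := y₂ * a₁ * y₂⁻¹ with ha₂
  have s2 := star h₂ (ha.conj y₁⁻¹) hb
  have s3 := star h₁ ((ha.conj y₁⁻¹).conj y₂) hb
  have e : y₁ * a₂ * y₁⁻¹ = (y₁ * y₂ * y₁⁻¹) * a * (y₁ * y₂ * y₁⁻¹)⁻¹ := by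
    rw [ha₂, ha₁]; group
  rw [e, W1, s2, s1] at s3
  have key : (y₁ * y₂ * y₁⁻¹)⁻¹ * t * (y₁ * y₂ * y₁⁻¹) = y₁⁻¹ * (y₂⁻¹ * ((y₁⁻¹)⁻¹ * t * y₁⁻¹) * y₂) * y₁ := s3
  calc ((y₁⁻¹ * y₂ * y₁) * (y₁ * y₂⁻¹ * y₁⁻¹)) * t * ((y₁⁻¹ * y₂ * y₁) * (y₁ * y₂⁻¹ * y₁⁻¹))⁻¹
      = (y₁⁻¹ * y₂ * y₁) * ((y₁ * y₂ * y₁⁻¹)⁻¹ * t * (y₁ * y₂ * y₁⁻¹)) * (y₁⁻¹ * y₂ * y₁)⁻¹ := by group
    _ = (y₁⁻¹ * y₂ * y₁) * (y₁⁻¹ * (y₂⁻¹ * ((y₁⁻¹)⁻¹ * t * y₁⁻¹) * y₂) * y₁) * (y₁⁻¹ * y₂ * y₁)⁻¹ := by rw [key]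
    _ = t := by group

end

/-- A noncommutative finite `2`-group has a noncentral element of its second centre. -/
lemma exists_second [Finite G] (hQ : IsPGroup 2 Q) (hnc : ¬ ∀ a ∈ Q, ∀ b ∈ Q, a * b = b * a) :
    ∃ a b : G, InA Q a ∧ b ∈ Q ∧ ⁅a, b⁆ ≠ 1 := by
  haveI : Fact (Nat.Prime 2) := ⟨Nat.prime_two⟩
  have hntop : Subgroup.center Q ≠ ⊤ := by
    intro h
    apply hnc
    intro a ha b hb
    have : (⟨a, ha⟩ : Q) ∈ Subgroup.center Q := by rw [h]; trivial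
    have h' := (Subgroup.mem_center_iff.mp this) ⟨b, hb⟩
    exact (congrArg Subtype.val h').symm
  haveI : Nontrivial (Q ⧸ Subgroup.center Q) := by
    rw [QuotientGroup.nontrivial_iff]
    exact hntop
  have hpq : IsPGroup 2 (Q ⧸ Subgroup.center Q) := IsPGroup.to_quotient hQ _
  haveI : Nontrivial (Subgroup.center (Q ⧸ Subgroup.center Q)) := hpq.center_nontrivial
  obtain ⟨x, hx⟩ := exists_ne (1 : Subgroup.center (Q ⧸ Subgroup.center Q))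
  obtain ⟨a, ha⟩ := QuotientGroup.mk_surjective (x : Q ⧸ Subgroup.center Q)
  have hane : a ∉ Subgroup.center Q := by
    intro h
    apply hx
    apply Subtype.ext
    rw [← ha]
    exact (QuotientGroup.eq_one_iff a).mpr h
  have hcomm : ∀ b : Q, ⁅a, b⁆ ∈ Subgroup.center Q := by
    intro b
    rw [← QuotientGroup.eq_one_iff]
    have hxc := x.2
    rw [Subgroup.mem_center_iff] at hxc
    have h' := hxc (b : Q ⧸ Subgroup.center Q)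
    rw [← ha] at h'
    simp only [commutatorElement_def, QuotientGroup.mk_mul, QuotientGroup.mk_inv]
    have : ((a : Q ⧸ Subgroup.center Q)) * b = b * a := h'.symm
    rw [this]
    group
  have hA : InA Q (a : G) := by
    refine ⟨a.2, ?_⟩
    intro b hb
    have h1 := hcomm ⟨b, hb⟩
    have e : (⁅a, (⟨b, hb⟩ : Q)⁆ : Q).1 = ⁅(a : G), b⁆ := rfl
    refine ⟨by rw [← e]; exact Subtype.property _, ?_⟩
    intro q hq
    have h2 := (Subgroup.mem_center_iff.mp h1) ⟨q, hq⟩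
    have h3 := congrArg Subtype.val h2
    rw [← e]
    exact h3.symm
  have : ∃ b : Q, a * b ≠ b * a := by
    by_contra hno
    push Not at hno
    apply hane
    rw [Subgroup.mem_center_iff]
    intro b
    exact (hno b).symm
  obtain ⟨b, hb⟩ := this
  refine ⟨a, b, hA, b.2, ?_⟩
  intro h
  apply hb
  apply Subtype.ext
  have := commutatorElement_eq_one_iff_mul_comm.mp h
  exact this

end Cfsg.Agent.Lib.SL2Fpf.Pure
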