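import Cfsg.Agent.Lib.SL2Fpf.Bridge
import Cfsg.Agent.Lib.SL2Fpf.Pure
import Cfsg.Prelude.Def_BaumannBlocks

/-!
# `G/Q ≅ SL₂(2ⁿ)` with a fixed-point-free element of order three: `Q` is a sum of natural modules
-/

set_option autoImplicit false
set_option linter.unusedSectionVars false

open scoped MatrixGroups commutatorElement
open Matrix Cfsg.Agent.Lib.SL2Fpf.Mat Cfsg.Agent.Lib.SL2Fpf.Pure Cfsg.Agent.Lib.SL2Fpf.Bridge

namespace Cfsg.Agent.Lib.SL2Fpf.Final

variable {G : Type*} [Group G] {Q : Subgroup G} [hQn : Q.Normal]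
variable {K : Type*} [Field K]

/-- The projection onto `SL₂(K)`. -/
def piH (e : G ⧸ Q ≃* SL(2, K)) : G →* SL(2, K) := e.toMonoidHom.comp (QuotientGroup.mk' Q)

lemma piH_surj (e : G ⧸ Q ≃* SL(2, K)) : Function.Surjective (piH e) := by
  intro l
  obtain ⟨g, hg⟩ := QuotientGroup.mk'_surjective Q (e.symm l)
  refine ⟨g, ?_⟩
  change e (QuotientGroup.mk' Q g) = l
  rw [hg, e.apply_symm_apply]

lemma piH_eq_one (e : G ⧸ Q ≃* SL(2, K)) {g : G} : piH e g = 1 ↔ g ∈ Q := by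
  change e (QuotientGroup.mk' Q g) = 1 ↔ _
  rw [map_eq_one_iff e e.injective]
  exact QuotientGroup.eq_one_iff g

/-- The action on a normal subgroup centralised by `Q`. -/
noncomputable def tAct (e : G ⧸ Q ≃* SL(2, K)) (T : Subgroup G) [T.Normal]
    (hT : ∀ q ∈ Q, ∀ t ∈ T, q * t = t * q) : SL(2, K) →* MulAut T :=
  (QuotientGroup.lift Q (MulAut.conjNormal : G →* MulAut T) (by
    intro q hq
    rw [MonoidHom.mem_ker]
    ext t
    rw [MulAut.conjNormal_apply, hT q hq t t.2]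
    simp)).comp e.symm.toMonoidHom

lemma tAct_pi (e : G ⧸ Q ≃* SL(2, K)) (T : Subgroup G) [T.Normal]
    (hT : ∀ q ∈ Q, ∀ t ∈ T, q * t = t * q) (g : G) (t : T) :
    ((tAct e T hT (piH e g) t : T) : G) = g * t * g⁻¹ := by
  have : tAct e T hT (piH e g) = (MulAut.conjNormal g : MulAut T) := by
    simp only [tAct, piH, MonoidHom.comp_apply, MulEquiv.coe_toMonoidHom, e.symm_apply_apply]
    rfl
  rw [this, MulAut.conjNormal_apply]

section main

variable [Finite G] [CharP K 2] [Fintype K]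

/-- Norm identity on `T`. -/
lemma tNorm (e : G ⧸ Q ≃* SL(2, K)) (T : Subgroup G) [T.Normal]
    (hT : ∀ q ∈ Q, ∀ t ∈ T, q * t = t * q) (hTQ : T ≤ Q) {y₀ : G} (hy₀ : Fpf3 Q y₀) (hpi : piH e y₀ = x0)
    (a : T) : a * tAct e T hT x0 a * tAct e T hT (x0 * x0) a = 1 := by
  apply Subtype.ext
  have e1 : (x0 : SL(2, K)) * x0 = piH e (y₀ * y₀) := by rw [map_mul, hpi]
  rw [e1, ← hpi]
  simp only [Subgroup.coe_mul, tAct_pi, Subgroup.coe_one]
  exact norm_id hy₀ (hTQ a.2)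

/-- The two order-three elements do not commute. -/
lemma not_comm_aux {t : K} (ht0 : t ≠ 0) (ht1 : t ≠ 1) :
    (hh t * x0 * (hh t)⁻¹) * (x0 * x0) ≠ (x0 * x0) * (hh t * x0 * (hh t)⁻¹) := by
  intro h
  have e := congrArg (fun A : SL(2, K) => A.1 0 1) h
  simp only [hh_inv ht0, mul01, mul00, mul11, mul10, hh00 ht0, hh01 ht0, hh10 ht0, hh11 ht0,
    hh00 (inv_ne_zero ht0), hh01 (inv_ne_zero ht0), hh10 (inv_ne_zero ht0), hh11 (inv_ne_zero ht0),
    x000, x001, x010, x011] at e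
  have h2 : (2 : K) = 0 := two_zero
  simp only [inv_inv] at e
  have e' : 2 * t ^ 2 = t ^ 2 + t⁻¹ * t := by linear_combination e
  rw [inv_mul_cancel₀ ht0, h2, zero_mul] at e'
  have e2 : (t + 1) ^ 2 = 0 := by linear_combination -e' + t * h2
  have e3 : t + 1 = 0 := pow_eq_zero_iff (two_ne_zero) |>.mp e2
  apply ht1
  linear_combination e3 - h2

/-- The main theorem, abelian part. -/
theorem comm_of_fpf (hQ : IsPGroup 2 Q) {n : ℕ} (hK : Fintype.card K = 2 ^ n) (hn : 2 ≤ n)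
    (e : G ⧸ Q ≃* SL(2, K)) {y₀ : G} (hy₀ : Fpf3 Q y₀) (hpi : piH e y₀ = x0) :
    ∀ a ∈ Q, ∀ b ∈ Q, a * b = b * a := by
  classical
  by_contra hnc
  obtain ⟨a₀, b₀, ha₀, hb₀, hne⟩ := exists_second hQ hnc
  -- the centre of `Q`, as a subgroup of `G`
  let T : Subgroup G := Q ⊓ Subgroup.centralizer (Q : Set G)
  have memT : ∀ z, z ∈ T ↔ IsZ Q z := by
    intro z
    constructor
    · rintro ⟨h1, h2⟩
      refine ⟨h1, fun q hq => ?_⟩
      exact (Subgroup.mem_centralizer_iff.mp h2 q hq).symm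
    · rintro ⟨h1, h2⟩
      refine ⟨h1, Subgroup.mem_centralizer_iff.mpr fun q hq => ?_⟩
      exact (h2 q hq).symm
  haveI hTn : T.Normal := by
    constructor
    intro z hz g
    rw [memT] at hz ⊢
    exact hz.conj g
  have hTQ : T ≤ Q := inf_le_left
  have hT : ∀ q ∈ Q, ∀ t ∈ T, q * t = t * q := by
    intro q hq t ht
    exact (((memT t).mp ht).2 q hq).symm
  have hc : ∀ a b : T, a * b = b * a := by
    intro a b
    apply Subtype.ext
    exact ((memT a.1).mp a.2).2 b.1 (hTQ b.2)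
  have hp : ∀ a : T, ∃ k : ℕ, a ^ (2 ^ k) = 1 := by
    intro a
    obtain ⟨k, hk⟩ := hQ ⟨a.1, hTQ a.2⟩
    refine ⟨k, ?_⟩
    apply Subtype.ext
    have h := congrArg Subtype.val hk
    simpa using h
  set act := tAct e T hT with hact
  have hN := tNorm e T hT hTQ hy₀ hpi
  -- a parameter
  obtain ⟨t, ht0, ht1⟩ : ∃ t : K, t ≠ 0 ∧ t ≠ 1 := by
    by_contra h
    push Not at h
    have hsub : (Finset.univ : Finset K) ⊆ {0, 1} := by
      intro a _
      by_cases ha : a = 0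
      · simp [ha]
      · simp [h a ha]
    have h1 := Finset.card_le_card hsub
    rw [Finset.card_univ, hK] at h1
    have h2 : ({0, 1} : Finset K).card ≤ 2 := Finset.card_le_two
    have h3 : 2 ^ 2 ≤ 2 ^ n := Nat.pow_le_pow_right (by norm_num) hn
    omega
  obtain ⟨g₂, hg₂⟩ := piH_surj e (hh t)
  set y₂ := g₂ * y₀ * g₂⁻¹ with hy₂
  have hy₂f : Fpf3 Q y₂ := hy₀.conj g₂
  have hpi₂ : piH e y₂ = hh t * x0 * (hh t)⁻¹ := by
    rw [hy₂, map_mul, map_mul, map_inv, hg₂, hpi]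
  obtain ⟨ζ, hζ⟩ : ∃ ζ, ζ = (y₀⁻¹ * y₂ * y₀) * (y₀ * y₂⁻¹ * y₀⁻¹) := ⟨_, rfl⟩
  obtain ⟨z', hz'⟩ : ∃ z', z' = piH e ζ := ⟨_, rfl⟩
  have hz'1 : z' = 1 := by
    -- the subgroup of `T` fixed by the conjugates of `z'`
    let Ω : Subgroup T :=
      { carrier := {u | ∀ g : G, act (piH e g * z' * (piH e g)⁻¹) u = u}
        mul_mem' := by
          intro a b ha hb g
          rw [map_mul, ha g, hb g]
        one_mem' := by
          intro g
          rw [map_one]
        inv_mem' := by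
          intro a ha g
          rw [map_inv, ha g] }
    have memΩ : ∀ u, u ∈ Ω ↔ ∀ g : G, act (piH e g * z' * (piH e g)⁻¹) u = u := fun u => Iff.rfl
    apply A_faith hc act hK hn hN hp (Ω := Ω) (u₀ := ⟨⁅a₀, b₀⁆, (memT _).mpr (ha₀.2 b₀ hb₀)⟩)
    · -- stability
      intro l m hm g
      obtain ⟨h, rfl⟩ := piH_surj e l
      rw [memΩ] at hm
      have e0 : piH e g * z' * (piH e g)⁻¹ * piH e h
          = piH e h * (piH e (h⁻¹ * g) * z' * (piH e (h⁻¹ * g))⁻¹) := by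
        simp only [map_mul, map_inv]
        group
      have e1 : act (piH e g * z' * (piH e g)⁻¹) (act (piH e h) m)
          = act (piH e h) (act (piH e (h⁻¹ * g) * z' * (piH e (h⁻¹ * g))⁻¹) m) := by
        calc act (piH e g * z' * (piH e g)⁻¹) (act (piH e h) m)
            = act (piH e g * z' * (piH e g)⁻¹ * piH e h) m := by rw [map_mul act (piH e g * z' * (piH e g)⁻¹)]; rfl
          _ = act (piH e h * (piH e (h⁻¹ * g) * z' * (piH e (h⁻¹ * g))⁻¹)) m := by rw [e0]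
          _ = _ := by rw [map_mul act (piH e h)]; rfl
      rw [e1, hm]
    · -- the commutator lies in `Ω`
      intro g
      apply Subtype.ext
      have e1 : piH e g * z' * (piH e g)⁻¹ = piH e (g * ζ * g⁻¹) := by
        rw [hz']
        simp only [map_mul, map_inv]
      rw [e1, hact, tAct_pi]
      have e2 : g * ζ * g⁻¹ = ((g * y₀ * g⁻¹)⁻¹ * (g * y₂ * g⁻¹) * (g * y₀ * g⁻¹))
          * ((g * y₀ * g⁻¹) * (g * y₂ * g⁻¹)⁻¹ * (g * y₀ * g⁻¹)⁻¹) := by
        rw [hζ]; group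
      rw [e2]
      exact zeta_fix (hy₀.conj g) (hy₂f.conj g) ha₀ hb₀
    · intro h
      apply hne
      exact congrArg Subtype.val h
    · intro u hu
      have := ((memΩ u).mp hu) 1
      simpa using this
  -- contradiction
  apply not_comm_aux ht0 ht1
  have e1 : z' = (x0 : SL(2, K))⁻¹ * (hh t * x0 * (hh t)⁻¹) * x0 * (x0 * (hh t * x0 * (hh t)⁻¹)⁻¹ * (x0 : SL(2, K))⁻¹) := by
    rw [hz', hζ]
    simp only [map_mul, map_inv, hpi, hpi₂]
  rw [e1] at hz'1
  set X := hh t * x0 * (hh t)⁻¹ with hX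
  have e2 : X * (x0 * x0) * X⁻¹ = x0 * x0 := by
    have c : (x0 : SL(2, K)) * x0 * x0 = 1 := x0_cube
    calc X * (x0 * x0) * X⁻¹ = x0 * ((x0 : SL(2, K))⁻¹ * X * x0 * (x0 * X⁻¹ * (x0 : SL(2, K))⁻¹)) * x0 := by group
      _ = x0 * x0 := by rw [hz'1, mul_one]
  calc X * (x0 * x0) = X * (x0 * x0) * X⁻¹ * X := by group
    _ = x0 * x0 * X := by rw [e2]

end main

/-- **The theorem.** -/
theorem main_thm {G : Type*} [Group G] [Finite G]
    (Q : Subgroup G) [Q.Normal] (hQ : IsPGroup 2 ↥Q) (n : ℕ) (hn : 2 ≤ n)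
    (K : Type*) [Field K] [Fintype K] (hK : Fintype.card K = 2 ^ n)
    (e : G ⧸ Q ≃* Matrix.SpecialLinearGroup (Fin 2) K)
    (x : G) (hx : orderOf x = 3) (hfpf : ∀ q ∈ Q, x * q * x⁻¹ = q → q = 1) :
    Cfsg.IsElementaryAbelian 2 Q ∧
      ∃ (k : ℕ) (V : Fin k → Subgroup G), (∀ i, V i ≤ Q ∧ (V i).Normal ∧
        Cfsg.ActsAsSL2OnSection K ⊤ ⊤ (V i) ⊥) ∧ iSupIndep V ∧ ⨆ i, V i = Q := by
  classical
  have h2K : (2 : K) = 0 := by
    have h := FiniteField.cast_card_eq_zero K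
    rw [hK] at h
    push_cast at h
    exact (pow_eq_zero_iff (by omega)).mp h
  haveI : CharP K 2 := CharTwo.of_one_ne_zero_of_two_eq_zero one_ne_zero h2K
  have hx3 : Fpf3 Q x := ⟨by
    have := pow_orderOf_eq_one x
    rw [hx, pow_succ, pow_two] at this
    exact this, hfpf⟩
  have hx1 : piH e x ≠ 1 := by
    intro h
    have hxQ : x ∈ Q := (piH_eq_one e).mp h
    have h1 : x = 1 := hfpf x hxQ (by group)
    rw [h1, orderOf_one] at hx
    omega
  have hx33 : piH e x * piH e x * piH e x = 1 := by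
    rw [← map_mul, ← map_mul, hx3.cube, map_one]
  obtain ⟨u, hu⟩ := exists_conj hx1 hx33
  obtain ⟨g, hg⟩ := piH_surj e u⁻¹
  have hy₀ : Fpf3 Q (g * x * g⁻¹) := hx3.conj g
  have hpi : piH e (g * x * g⁻¹) = x0 := by
    rw [map_mul, map_mul, map_inv, hg, inv_inv, mul_assoc, hu]
    group
  have hcomm := comm_of_fpf hQ hK hn e hy₀ hpi
  have hT : ∀ q ∈ Q, ∀ t ∈ Q, q * t = t * q := hcomm
  set act := tAct e Q hT with hact
  have hc : ∀ a b : Q, a * b = b * a := by
    intro a b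
    apply Subtype.ext
    exact hcomm _ a.2 _ b.2
  have hp : ∀ a : Q, ∃ k : ℕ, a ^ (2 ^ k) = 1 := fun a => hQ a
  have hN := tNorm e Q hT le_rfl hy₀ hpi
  have two := A_exp hc act hK hn hN hp
  refine ⟨⟨⟨⟨fun a b => hc a b⟩⟩, fun a ha => ?_⟩, ?_⟩
  · have := two ⟨a, ha⟩
    rw [pow_two]
    exact congrArg Subtype.val this
  obtain ⟨k, φ, p, hadd, hequiv, hpadd, hpφ, hspan⟩ := A_dec hc act hK hn hN two
  have φ0 : ∀ i, φ i 0 = 1 := by
    intro i
    have := hadd i 0 0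
    rw [add_zero] at this
    exact left_eq_mul.mp this
  have φneg : ∀ i v, φ i (-v) = (φ i v)⁻¹ := by
    intro i v
    have := hadd i (-v) v
    rw [neg_add_cancel, φ0] at this
    exact eq_inv_of_mul_eq_one_left this.symm
  let V : Fin k → Subgroup G := fun i =>
    { carrier := {g | ∃ v, ((φ i v : Q) : G) = g}
      mul_mem' := by
        rintro a b ⟨v, rfl⟩ ⟨v', rfl⟩
        exact ⟨v + v', by rw [hadd]; rfl⟩
      one_mem' := ⟨0, by rw [φ0]; rfl⟩
      inv_mem' := by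
        rintro a ⟨v, rfl⟩
        exact ⟨-v, by rw [φneg]; rfl⟩ }
  have memV : ∀ i g, g ∈ V i ↔ ∃ v, ((φ i v : Q) : G) = g := fun i g => Iff.rfl
  have hVQ : ∀ i, V i ≤ Q := by
    rintro i _ ⟨v, rfl⟩
    exact (φ i v).2
  have hconj : ∀ (i : Fin k) (g : G) (v : Fin 2 → K),
      g * ((φ i v : Q) : G) * g⁻¹ = ((φ i ((piH e g : Matrix (Fin 2) (Fin 2) K).mulVec v) : Q) : G) := by
    intro i g v
    rw [hequiv, hact, tAct_pi]
  have hVn : ∀ i, (V i).Normal := by
    intro i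
    constructor
    rintro _ ⟨v, rfl⟩ g
    exact ⟨_, (hconj i g v).symm⟩
  refine ⟨k, V, ?_, ?_, ?_⟩
  · intro i
    refine ⟨hVQ i, hVn i, ?_, bot_le, ?_⟩
    · intro g _
      rw [Subgroup.mem_normalizer_iff]
      intro h
      constructor
      · intro hh
        exact (hVn i).conj_mem h hh g
      · intro hh
        have := (hVn i).conj_mem _ hh g⁻¹
        simpa [mul_assoc] using this
    · let ψ : ↥(V i) →* Multiplicative (Fin 2 → K) := MonoidHom.mk'
        (fun u => Multiplicative.ofAdd (p i ⟨u.1, hVQ i u.2⟩)) (by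
          intro a b
          have : (⟨(a * b).1, hVQ i (a * b).2⟩ : Q) = ⟨a.1, hVQ i a.2⟩ * ⟨b.1, hVQ i b.2⟩ := rfl
          change Multiplicative.ofAdd (p i ⟨(a * b).1, hVQ i (a * b).2⟩)
            = Multiplicative.ofAdd (p i ⟨a.1, hVQ i a.2⟩) * Multiplicative.ofAdd (p i ⟨b.1, hVQ i b.2⟩)
          rw [this, hpadd]
          rfl)
      have ψ_φ : ∀ (v : Fin 2 → K), p i ((φ i v : Q)) = v := by
        intro v
        rw [hpφ]
        simp
      have ψ_apply : ∀ (u : ↥(V i)) (v : Fin 2 → K), u.1 = ((φ i v : Q) : G) → Multiplicative.toAdd (ψ u) = v := by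
        intro u v h
        have e1 : (⟨u.1, hVQ i u.2⟩ : Q) = φ i v := Subtype.ext h
        change p i ⟨u.1, hVQ i u.2⟩ = v
        rw [e1, ψ_φ]
      refine ⟨(piH e).comp (⊤ : Subgroup G).subtype, ψ, ?_, ?_, ?_, ?_⟩
      · rw [MonoidHom.range_eq_top]
        intro l
        obtain ⟨g, hg⟩ := piH_surj e l
        exact ⟨⟨g, trivial⟩, hg⟩
      · intro w
        refine ⟨⟨((φ i (Multiplicative.toAdd w) : Q) : G), ⟨_, rfl⟩⟩, ?_⟩
        apply Multiplicative.toAdd.injective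
        exact ψ_apply _ _ rfl
      · rintro ⟨_, v, rfl⟩
        rw [Subgroup.mem_bot]
        constructor
        · intro h
          have h1 := ψ_apply ⟨_, ⟨v, rfl⟩⟩ v rfl
          rw [h] at h1
          have hv : v = 0 := h1.symm
          subst hv
          change ((φ i 0 : Q) : G) = 1
          rw [φ0]
          rfl
        · intro h
          have h' : φ i v = 1 := Subtype.ext h
          have h1 := ψ_apply ⟨_, ⟨v, rfl⟩⟩ v rfl
          have hv : v = 0 := by
            have := ψ_φ v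
            rw [h'] at this
            rw [← φ0 i, ψ_φ] at this
            exact this.symm
          subst hv
          apply Multiplicative.toAdd.injective
          exact h1
      · rintro ⟨g, -⟩ ⟨_, v, rfl⟩
        refine ⟨⟨_, ⟨_, (hconj i g v).symm⟩⟩, rfl, ?_⟩
        have h1 := ψ_apply ⟨_, ⟨v, rfl⟩⟩ v rfl
        have h2 := ψ_apply ⟨_, ⟨_, (hconj i g v).symm⟩⟩ _ (hconj i g v)
        rw [h2, h1]
        rfl
  · -- independence
    intro i
    rw [Subgroup.disjoint_def]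
    rintro _ ⟨v, rfl⟩ hz
    -- the kernel of the projection
    let W : Subgroup G :=
      { carrier := {g | ∃ h : g ∈ Q, p i ⟨g, h⟩ = 0}
        mul_mem' := by
          rintro a b ⟨ha, ha'⟩ ⟨hb, hb'⟩
          refine ⟨Q.mul_mem ha hb, ?_⟩
          have : (⟨a * b, Q.mul_mem ha hb⟩ : Q) = ⟨a, ha⟩ * ⟨b, hb⟩ := rfl
          rw [this, hpadd, ha', hb', add_zero]
        one_mem' := by
          refine ⟨Q.one_mem, ?_⟩
          have : (⟨1, Q.one_mem⟩ : Q) = φ i 0 := by rw [φ0]; rfl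
          rw [this, hpφ]
          simp
        inv_mem' := by
          rintro a ⟨ha, ha'⟩
          refine ⟨Q.inv_mem ha, ?_⟩
          have h0 := hpadd i ⟨a, ha⟩ (⟨a, ha⟩ : Q)⁻¹
          rw [mul_inv_cancel] at h0
          have h1 : p i (1 : Q) = 0 := by
            have : (1 : Q) = φ i 0 := by rw [φ0]
            rw [this, hpφ]
            simp
          rw [h1, ha', zero_add] at h0
          exact h0.symm }
    have hle : (⨆ j, ⨆ (_ : j ≠ i), V j) ≤ W := by
      apply iSup₂_le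
      rintro j hj _ ⟨v', rfl⟩
      refine ⟨(φ j v').2, ?_⟩
      have : (⟨((φ j v' : Q) : G), (φ j v').2⟩ : Q) = φ j v' := rfl
      rw [this, hpφ, if_neg (Ne.symm hj)]
    obtain ⟨_, h0⟩ := hle hz
    have : (⟨((φ i v : Q) : G), (φ i v).2⟩ : Q) = φ i v := rfl
    rw [this, hpφ, if_pos rfl] at h0
    subst h0
    rw [φ0]
    rfl
  · -- the sum
    apply le_antisymm
    · exact iSup_le hVQ
    · intro a ha
      have h := hspan ((⨆ i, V i).subgroupOf Q) (fun i v => by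
        rw [Subgroup.mem_subgroupOf]
        exact Subgroup.mem_iSup_of_mem i ⟨v, rfl⟩) ⟨a, ha⟩
      rw [Subgroup.mem_subgroupOf] at h
      exact h

end Cfsg.Agent.Lib.SL2Fpf.Final
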