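import Cfsg.Agent.Lib.SL2Fpf.Rel

/-!
# The key step: extensions split, squares vanish (fixed-point-free order three action of `SL₂(2ⁿ)`)
-/

set_option autoImplicit false
set_option linter.unusedSectionVars false

open scoped MatrixGroups
open Matrix Cfsg.Agent.Lib.SL2Fpf.Mat Cfsg.Agent.Lib.SL2Fpf.Rel

namespace Cfsg.Agent.Lib.SL2Fpf.Main1

variable {K : Type*} [Field K] [CharP K 2] [Finite K]
variable {M : Type*} [AddCommGroup M] [DistribMulAction SL(2, K) M]

local notation "W" => (wm : SL(2, K))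

lemma solve3 {a b c : M} (h : a + b + c = 0) (hb : b + b = 0) (hc : c + c = 0) : a = b + c := by
  calc a = (a + b + c) + (b + c) - (b + b) - (c + c) := by abel
    _ = b + c := by rw [h, hb, hc]; simp

lemma stable_bot : Stable K (⊥ : AddSubgroup M) := by
  intro g z hz
  rw [AddSubgroup.mem_bot] at hz ⊢
  rw [hz, smul_zero]

lemma fixS_zero : FixS K (0 : M) := fun d => smul_zero _

lemma fixS_add {a b : M} (ha : FixS K a) (hb : FixS K b) : FixS K (a + b) := fun d => by
  rw [smul_add, ha d, hb d]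

lemma fixS_sub {a b : M} (ha : FixS K a) (hb : FixS K b) : FixS K (a - b) := fun d => by
  rw [smul_sub, ha d, hb d]

/-- The data of a pair of stable subgroups, with the lower one a sum of natural modules. -/
structure Pair (K : Type*) [Field K] [CharP K 2] [Finite K] {M : Type*} [AddCommGroup M]
    [DistribMulAction SL(2, K) M] (Ω₀ Ω₁ : AddSubgroup M) : Prop where
  norm : Norm0 K M
  st₀ : Stable K Ω₀
  st₁ : Stable K Ω₁
  le : Ω₀ ≤ Ω₁
  two₀ : ∀ z ∈ Ω₀, z + z = 0
  two₁ : ∀ z ∈ Ω₁, z + z ∈ Ω₀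
  dec : ∀ z ∈ Ω₀, ∃ z₁ z₂, z₁ ∈ Ω₀ ∧ FixS K z₁ ∧ z₂ ∈ Ω₀ ∧ FixS K z₂ ∧ z = z₁ + (wm : SL(2, K)) • z₂

section fixedvectors

variable {Ω₀ : AddSubgroup M} (hN : Norm0 K M) (st₀ : Stable K Ω₀) (two₀ : ∀ z ∈ Ω₀, z + z = 0)
include hN st₀ two₀

lemma al_wm_smul {u : M} (hu : u ∈ Ω₀) (hf : FixS K u) {d : K} (hd : d ≠ 0) :
    (al d : SL(2, K)) • W • u = W • u + hh d • u := by
  have := rel_al_wm (Ω := ⊥) hN stable_bot (y := u) (by
    intro d'; rw [AddSubgroup.mem_bot, hf d', sub_self]) (by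
    intro g; rw [AddSubgroup.mem_bot]; exact two₀ _ (st₀ _ _ hu)) hd
  rw [AddSubgroup.mem_bot, mul_smul] at this
  exact solve3 this (two₀ _ (st₀ _ _ hu)) (two₀ _ (st₀ _ _ hu))

lemma hh_add_smul {u : M} (hu : u ∈ Ω₀) (hf : FixS K u) {c₁ c₂ : K} (h₁ : c₁ ≠ 0) (h₂ : c₂ ≠ 0)
    (h₁₂ : c₁ + c₂ ≠ 0) : hh (c₁ + c₂) • u = hh c₁ • u + hh c₂ • u := by
  have := rel_hh (Ω := ⊥) hN stable_bot (y := u) (by
    intro d'; rw [AddSubgroup.mem_bot, hf d', sub_self]) (by
    intro g; rw [AddSubgroup.mem_bot]; exact two₀ _ (st₀ _ _ hu)) h₁ h₂ h₁₂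
  rw [AddSubgroup.mem_bot] at this
  have e : hh (c₁ + c₂) • u + hh c₁ • u + hh c₂ • u = 0 := by rw [← this]; abel
  exact solve3 e (two₀ _ (st₀ _ _ hu)) (two₀ _ (st₀ _ _ hu))

omit hN st₀ two₀ in
lemma fixS_hh {u : M} (hf : FixS K u) {c : K} (hc : c ≠ 0) : FixS K (hh c • u) := by
  intro d
  rw [← mul_smul, al_mul_hh d hc, mul_smul, hf]

lemma eq_zero_of_fixS_wm {u : M} (hu : u ∈ Ω₀) (hf : FixS K u) (hw : FixS K (W • u)) : u = 0 := by
  have := hN u
  rw [x0_sq_eq, mul_smul, hw 1, x0_eq, mul_smul, hf 1] at this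
  have h2 := two₀ _ (st₀ W _ hu)
  rwa [add_assoc, h2, add_zero] at this

end fixedvectors

lemma fixS_of_al {Ω₀ Ω₁ : AddSubgroup M} (P : Pair K Ω₀ Ω₁) {z : M} (hz : z ∈ Ω₀) {d : K} (hd : d ≠ 0)
    (h : (al d : SL(2, K)) • z = z) : FixS K z := by
  obtain ⟨z₁, z₂, h₁, f₁, h₂, f₂, rfl⟩ := P.dec z hz
  rw [smul_add, f₁ d, al_wm_smul P.norm P.st₀ P.two₀ h₂ f₂ hd] at h
  have e : hh d • z₂ = 0 := by
    have : z₁ + (W • z₂ + hh d • z₂) - (z₁ + W • z₂) = hh d • z₂ := by abel
    rw [← this, h, sub_self]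
  have e' : z₂ = 0 := (smul_eq_zero_iff_eq (hh d)).mp e
  rw [e', smul_zero, add_zero]
  exact f₁

section main

variable {Ω₀ Ω₁ : AddSubgroup M} (P : Pair K Ω₀ Ω₁) {m : M}

include P in
/-- The main computation. -/
lemma main_part (hm : m ∈ Ω₁) (hg : ∀ d : K, (al d : SL(2, K)) • m - m ∈ Ω₀)
    (hK : ∀ c₁ c₂ : K, c₁ ≠ 0 → c₂ ≠ 0 → c₁ + c₂ ≠ 0 →
      hh c₁ • m + hh c₂ • m - hh (c₁ + c₂) • m ∈ Ω₀ ∧ FixS K (hh c₁ • m + hh c₂ • m - hh (c₁ + c₂) • m))
    (hcard : ∃ a : K, a ≠ 0 ∧ a ≠ 1) :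
    m + m = 0 ∧ ∃ ω ∈ Ω₀, FixS K (m + ω) := by
  have hN := P.norm
  have st₀ := P.st₀
  have two₀ := P.two₀
  have two : (2 : K) = 0 := two_zero
  -- the function `g`
  set g : K → M := fun d => (al d : SL(2, K)) • m - m with hgdef
  have g_mem : ∀ d, g d ∈ Ω₀ := hg
  have al_m : ∀ d : K, (al d : SL(2, K)) • m = m + g d := fun d => by simp [hgdef]
  have g_zero : g 0 = 0 := by simp [hgdef, al_zero]
  have g_fix : ∀ d, FixS K (g d) := by
    intro d
    by_cases hd : d = 0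
    · rw [hd, g_zero]; exact fixS_zero
    · apply fixS_of_al P (g_mem d) hd
      have h2 := two₀ _ (g_mem d)
      have e : (al d : SL(2, K)) • g d = -g d := by
        simp only [hgdef, smul_sub, ← mul_smul, al_sq, one_smul]
        abel
      rw [e]
      exact neg_eq_of_add_eq_zero_left h2
  have g_add : ∀ c d, g (c + d) = g c + g d := by
    intro c d
    have : (al (c + d) : SL(2, K)) • m = (al c : SL(2, K)) • (al d : SL(2, K)) • m := by
      rw [← mul_smul, al_add]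
    have e : g (c + d) = (al c : SL(2, K)) • (al d : SL(2, K)) • m - m := by
      simp only [hgdef]; rw [this]
    rw [e, al_m d, smul_add, g_fix d c, al_m c]
    abel
  -- the square
  set y : M := m + m with hy
  have y_mem : y ∈ Ω₀ := P.two₁ m hm
  have y_fix : FixS K y := by
    intro d
    rw [hy, smul_add, al_m d]
    have h2 := two₀ _ (g_mem d)
    calc m + g d + (m + g d) = m + m + (g d + g d) := by abel
      _ = m + m := by rw [h2, add_zero]
  have h2m : ∀ g' : SL(2, K), g' • m + g' • m ∈ Ω₀ := by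
    intro g'
    rw [← smul_add]
    exact st₀ _ _ y_mem
  have al_hh : ∀ (d : K) {c : K}, c ≠ 0 →
      (al d : SL(2, K)) • hh c • m = hh c • m + hh c • g (d / c ^ 2) := by
    intro d c hc
    rw [← mul_smul, al_mul_hh d hc, mul_smul, al_m, smul_add]
  -- the element `n = w m`
  set z : K → M := fun d => (al d : SL(2, K)) • W • m - W • m - hh d • m with hzdef
  have al_n : ∀ d : K, (al d : SL(2, K)) • W • m = W • m + hh d • m + z d := by
    intro d; simp only [hzdef]; abel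
  have z_mem : ∀ d : K, d ≠ 0 → z d ∈ Ω₀ := by
    intro d hd
    have := rel_al_wm hN st₀ hg h2m hd
    have e : z d = ((al d * wm) • m + W • m + hh d • m) - (W • m + W • m) - (hh d • m + hh d • m) := by
      simp only [hzdef, mul_smul]; abel
    rw [e]
    exact Ω₀.sub_mem (Ω₀.sub_mem this (h2m _)) (h2m _)
  have zdec : ∀ d : K, d ≠ 0 → ∃ z₁ z₂, z₁ ∈ Ω₀ ∧ FixS K z₁ ∧ z₂ ∈ Ω₀ ∧ FixS K z₂ ∧ z d = z₁ + W • z₂ :=
    fun d hd => P.dec _ (z_mem d hd)
  choose! z₁ z₂ hz₁ fz₁ hz₂ fz₂ hzz using zdec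
  have al_z : ∀ {d d' : K}, d ≠ 0 → d' ≠ 0 → (al d : SL(2, K)) • z d' = z d' + hh d • z₂ d' := by
    intro d d' hd hd'
    rw [hzz d' hd', smul_add, fz₁ d' hd' d, al_wm_smul hN st₀ two₀ (hz₂ d' hd') (fz₂ d' hd') hd]
    abel
  -- first relation
  have M1 : ∀ d : K, d ≠ 0 → z₂ d = y + g d⁻¹ := by
    intro d hd
    have E1 : (al d : SL(2, K)) • (al d : SL(2, K)) • W • m = W • m := by
      rw [← mul_smul, al_sq, one_smul]
    rw [al_n d, smul_add, smul_add, al_n d, al_hh d hd, al_z hd hd] at E1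
    have ed : d / d ^ 2 = d⁻¹ := by field_simp
    rw [ed] at E1
    have h2z := two₀ _ (z_mem d hd)
    have e0 : hh d • (y + g d⁻¹ + z₂ d) = 0 := by
      have e1 : hh d • y = hh d • m + hh d • m := by rw [hy, smul_add]
      rw [smul_add, smul_add, e1]
      have e2 : W • m + hh d • m + z d + (hh d • m + hh d • g d⁻¹) + (z d + hh d • z₂ d) - W • m
          = hh d • m + hh d • m + hh d • g d⁻¹ + hh d • z₂ d + (z d + z d) := by abel
      rw [h2z, add_zero] at e2
      rw [← e2, E1, sub_self]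
    have e1 : y + g d⁻¹ + z₂ d = 0 := (smul_eq_zero_iff_eq (hh d)).mp e0
    have := solve3 (a := z₂ d) (b := y) (c := g d⁻¹) (by rw [← e1]; abel) (two₀ _ y_mem) (two₀ _ (g_mem _))
    exact this
  -- additivity
  have M2 : ∀ d d' : K, d ≠ 0 → d' ≠ 0 → d + d' ≠ 0 → z₂ (d + d') = z₂ d + z₂ d' := by
    intro d d' hd hd' hdd
    have E : (al (d + d') : SL(2, K)) • W • m = (al d : SL(2, K)) • (al d' : SL(2, K)) • W • m := by
      rw [← al_add, mul_smul]
    rw [al_n (d + d'), al_n d', smul_add, smul_add, al_n d, al_hh d hd', al_z hd hd'] at E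
    obtain ⟨hκ, fκ⟩ := hK d d' hd hd' hdd
    set κ := hh d • m + hh d' • m - hh (d + d') • m with hκdef
    -- rewrite everything in terms of the components
    have key : W • (z₂ (d + d') - z₂ d - z₂ d')
        = z₁ d + z₁ d' - z₁ (d + d') + κ + hh d' • g (d / d' ^ 2) + hh d • z₂ d' := by
      have e1 := hzz (d + d') hdd
      have e2 := hzz d hd
      have e3 := hzz d' hd'
      rw [e1, e2, e3] at E
      rw [smul_sub, smul_sub]
      rw [hκdef]
      have E' := sub_eq_zero.mpr E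
      rw [← sub_eq_zero, ← E']
      abel
    have hfix : FixS K (W • (z₂ (d + d') - z₂ d - z₂ d')) := by
      rw [key]
      refine fixS_add (fixS_add (fixS_add (fixS_sub (fixS_add (fz₁ d hd) (fz₁ d' hd')) (fz₁ _ hdd)) fκ) ?_) ?_
      · exact fixS_hh (g_fix _) hd'
      · exact fixS_hh (fz₂ d' hd') hd
    have h0 := eq_zero_of_fixS_wm hN st₀ two₀
      (Ω₀.sub_mem (Ω₀.sub_mem (hz₂ _ hdd) (hz₂ _ hd)) (hz₂ _ hd'))
      (fixS_sub (fixS_sub (fz₂ _ hdd) (fz₂ _ hd)) (fz₂ _ hd')) hfix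
    have : z₂ (d + d') = (z₂ (d + d') - z₂ d - z₂ d') + (z₂ d + z₂ d') := by abel
    rw [this, h0, zero_add]
  -- the functional equation
  have T : ∀ d d' : K, d ≠ 0 → d' ≠ 0 → d + d' ≠ 0 → g (d⁻¹ + d'⁻¹ + (d + d')⁻¹) = y := by
    intro d d' hd hd' hdd
    have h := M2 d d' hd hd' hdd
    rw [M1 _ hdd, M1 _ hd, M1 _ hd'] at h
    rw [g_add, g_add]
    have h2y := two₀ _ y_mem
    have h2a := two₀ _ (g_mem d⁻¹)
    have h2b := two₀ _ (g_mem d'⁻¹)
    calc g d⁻¹ + g d'⁻¹ + g (d + d')⁻¹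
        = (g d⁻¹ + g d'⁻¹) + (y + g (d + d')⁻¹) - y := by abel
      _ = (g d⁻¹ + g d'⁻¹) + (y + g d⁻¹ + (y + g d'⁻¹)) - y := by rw [h]
      _ = (g d⁻¹ + g d⁻¹) + (g d'⁻¹ + g d'⁻¹) + (y + y) - y := by abel
      _ = y := by
        rw [h2a, h2b, h2y]
        simp only [add_zero, zero_sub]
        exact neg_eq_of_add_eq_zero_left h2y
  by_cases hcase : ∃ a : K, a ≠ 0 ∧ a ≠ 1 ∧ a ^ 2 + a + 1 ≠ 0
  · -- the generic case: `g` is constant off zero
    obtain ⟨a, ha0, ha1, ha⟩ := hcase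
    have h1a : 1 + a ≠ 0 := by
      intro h; apply ha1; linear_combination h - two
    set ρ := 1 + a⁻¹ + (1 + a)⁻¹ with hρ
    have hρ0 : ρ ≠ 0 := by
      intro h
      apply ha
      have e : ρ * (a * (1 + a)) = a ^ 2 + 3 * a + 1 := by
        rw [hρ]; field_simp; ring
      rw [h, zero_mul] at e
      linear_combination -e - a * two
    have gz : ∀ w : K, w ≠ 0 → g w = y := by
      intro w hw
      have ht : ρ / w ≠ 0 := div_ne_zero hρ0 hw
      set t := ρ / w with htdef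
      have e : t⁻¹ + (t * a)⁻¹ + (t + t * a)⁻¹ = w := by
        have e1 : t + t * a = t * (1 + a) := by ring
        rw [e1, mul_inv, mul_inv]
        have e2 : t⁻¹ + t⁻¹ * a⁻¹ + t⁻¹ * (1 + a)⁻¹ = t⁻¹ * ρ := by rw [hρ]; ring
        rw [e2, htdef]
        field_simp
      have h3 := T t (t * a) ht (mul_ne_zero ht ha0) (by
        have e1 : t + t * a = t * (1 + a) := by ring
        rw [e1]; exact mul_ne_zero ht h1a)
      rwa [e] at h3
    have y0 : y = 0 := by
      have e := g_add 1 a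
      rw [gz _ h1a, gz 1 one_ne_zero, gz a ha0] at e
      have h2y := two₀ _ y_mem
      rw [h2y] at e
      exact e
    refine ⟨y0, 0, Ω₀.zero_mem, ?_⟩
    rw [add_zero]
    intro d
    rw [al_m d]
    by_cases hd : d = 0
    · rw [hd, g_zero, add_zero]
    · rw [gz d hd, y0, add_zero]
  · -- the field with four elements
    push Not at hcase
    obtain ⟨ω, hω0, hω1⟩ := hcard
    have hω := hcase ω hω0 hω1
    have h1ω : 1 + ω ≠ 0 := by
      intro h; apply hω1; linear_combination h - two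
    have hinv : ω⁻¹ = 1 + ω := by
      field_simp
      linear_combination -hω + (ω ^ 2 + ω + 1) * 0 + two
    have hinv' : (1 + ω)⁻¹ = ω := by
      rw [← hinv, inv_inv]
    have hc1 : (1 : K) / ω ^ 2 = ω := by
      rw [one_div, ← inv_pow, hinv]
      linear_combination hω
    have hc2 : (1 : K) / (1 + ω) ^ 2 = 1 + ω := by
      rw [one_div, ← inv_pow, hinv']
      linear_combination hω - (ω + 1) * two
    have y0 : y = 0 := by
      have h3 := T 1 ω one_ne_zero hω0 h1ω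
      have e : (1 : K)⁻¹ + ω⁻¹ + (1 + ω)⁻¹ = 0 := by
        rw [hinv', hinv, inv_one]
        linear_combination (1 + ω) * two
      rw [e, g_zero] at h3
      exact h3.symm
    set u := g 1 with hu
    set v := g ω with hv
    have hum : u ∈ Ω₀ := g_mem 1
    have hvm : v ∈ Ω₀ := g_mem ω
    have hfu : FixS K u := g_fix 1
    have hfv : FixS K v := g_fix ω
    have hvu : v = hh ω • u := by
      obtain ⟨-, fκ⟩ := hK 1 ω one_ne_zero hω0 h1ω
      have e := fκ 1
      rw [smul_sub, smul_add, al_hh 1 (one_ne_zero), al_hh 1 hω0, al_hh 1 h1ω, hc1, hc2, g_add 1 ω] at e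
      have e' : hh (1 : K) • m + hh (1 : K) • g (1 / 1 ^ 2) + (hh ω • m + hh ω • v)
          - (hh (1 + ω) • m + hh (1 + ω) • (u + v)) - (hh (1 : K) • m + hh ω • m - hh (1 + ω) • m) = 0 := by
        rw [sub_eq_zero]
        exact e
      have e1 : hh (1 : K) • g (1 / 1 ^ 2) = u := by
        rw [hh_one, one_smul]; simp [hu]
      have e2 := hh_add_smul hN st₀ two₀ hum hfu one_ne_zero hω0 h1ω
      have e3 := hh_add_smul hN st₀ two₀ hvm hfv one_ne_zero hω0 h1ω
      rw [e1, smul_add, e2, e3, hh_one, one_smul, one_smul] at e'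
      have e4 : v + hh ω • u = 0 := by
        have h2 := two₀ _ (st₀ (hh ω) _ hum)
        have h2' := two₀ _ hvm
        have : v + hh ω • u = -(1 • m + (u) + (hh ω • m + hh ω • v) - (hh (1 + ω) • m + (u + hh ω • u + (v + hh ω • v)))
            - (1 • m + hh ω • m - hh (1 + ω) • m)) := by
          abel
        rw [this]
        simp only [one_smul] at e' ⊢
        rw [e']
        simp
      have h2 := two₀ _ (st₀ (hh ω) _ hum)
      calc v = (v + hh ω • u) + hh ω • u - (hh ω • u + hh ω • u) := by abel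
        _ = hh ω • u := by rw [e4, h2]; simp
    have gf : ∀ d : K, d ≠ 0 → g d = hh d • u := by
      intro d hd
      by_cases hd1 : d = 1
      · rw [hd1, hh_one, one_smul]
      · have hdd := hcase d hd hd1
        have e : (d + ω) * (d + ω + 1) = 0 := by
          linear_combination hdd + hω + (d * ω - 1) * two
        rcases mul_eq_zero.mp e with h | h
        · have : d = ω := by linear_combination h - ω * two
          rw [this]; exact hvu
        · have : d = 1 + ω := by linear_combination h - (ω + 1) * two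
          rw [this, g_add, hh_add_smul hN st₀ two₀ hum hfu one_ne_zero hω0 h1ω, hh_one, one_smul]
          rw [← hu, ← hv, hvu]
    refine ⟨y0, W • u, st₀ _ _ hum, ?_⟩
    intro d
    by_cases hd : d = 0
    · rw [hd, al_zero, one_smul]
    · rw [smul_add, al_m d, al_wm_smul hN st₀ two₀ hum hfu hd, gf d hd]
      have h2 := two₀ _ (st₀ (hh d) _ hum)
      calc m + hh d • u + (W • u + hh d • u) = m + W • u + (hh d • u + hh d • u) := by abel
        _ = m + W • u := by rw [h2, add_zero]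

end main

end Cfsg.Agent.Lib.SL2Fpf.Main1
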