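import Cfsg.Agent.Lib.SL2Fpf.Main1

/-!
# Semisimplicity and exponent two for modules of `SL₂(2ⁿ)` on which an element of order three has zero norm
-/

set_option autoImplicit false
set_option linter.unusedSectionVars false

open scoped MatrixGroups
open Matrix Cfsg.Agent.Lib.SL2Fpf.Mat Cfsg.Agent.Lib.SL2Fpf.Rel Cfsg.Agent.Lib.SL2Fpf.Main1

namespace Cfsg.Agent.Lib.SL2Fpf.Main2

variable {K : Type*} [Field K] [CharP K 2] [Fintype K]
variable {M : Type*} [AddCommGroup M] [DistribMulAction SL(2, K) M]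

local notation "W" => (wm : SL(2, K))

/-- The absolute trace, as an explicit polynomial. -/
def tr (n : ℕ) (s : K) : K := ∑ i ∈ Finset.range n, s ^ (2 ^ i)

lemma tr_add (n : ℕ) (a b : K) : tr n (a + b) = tr n a + tr n b := by
  simp only [tr, add_pow_char_pow, Finset.sum_add_distrib]

lemma tr_zero (n : ℕ) : tr n (0 : K) = 0 := by
  simp [tr]

lemma tr_sq {n : ℕ} (hK : Fintype.card K = 2 ^ n) (s : K) : tr n s ^ 2 = tr n s := by
  have hs : s ^ (2 ^ n) = s := by rw [← hK]; exact FiniteField.pow_card s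
  have e1 : tr n s ^ 2 = ∑ i ∈ Finset.range n, s ^ (2 ^ (i + 1)) := by
    simp only [tr]
    rw [sum_pow_char]
    apply Finset.sum_congr rfl
    intro i _
    rw [← pow_mul, pow_succ]
  rw [e1]
  have e2 := Finset.sum_range_succ (fun i => s ^ (2 ^ i)) n
  have e3 := Finset.sum_range_succ' (fun i => s ^ (2 ^ i)) n
  simp only [pow_zero, pow_one] at e3
  rw [hs, e3] at e2
  simp only [tr]
  exact add_right_cancel e2

lemma tr_cases {n : ℕ} (hK : Fintype.card K = 2 ^ n) (s : K) : tr n s = 0 ∨ tr n s = 1 := by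
  have := tr_sq hK s
  have h : tr n s * (tr n s - 1) = 0 := by linear_combination this
  rcases mul_eq_zero.mp h with h | h
  · exact Or.inl h
  · exact Or.inr (by linear_combination h)

lemma tr_one_add {n : ℕ} (hK : Fintype.card K = 2 ^ n) {a b : K} (ha : tr n a = 1) (hb : tr n b = 1) :
    tr n (a + b) = 0 := by
  rw [tr_add, ha, hb]
  exact CharTwo.add_self_eq_zero _

/-- The sum formula: the trace form inverts. -/
lemma sum_tr {n : ℕ} (hK : Fintype.card K = 2 ^ n) (hn : 1 ≤ n) :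
    ∑ s : K, tr n s * s⁻¹ = 1 := by
  classical
  obtain ⟨k, rfl⟩ : ∃ k, n = k + 1 := ⟨n - 1, by omega⟩
  simp only [tr, Finset.sum_mul]
  rw [Finset.sum_comm, Finset.sum_range_succ']
  have h0 : ∑ s : K, s ^ (2 ^ 0) * s⁻¹ = 1 := by
    have e : ∀ s : K, s ^ (2 ^ 0) * s⁻¹ = if s = 0 then 0 else 1 := by
      intro s
      by_cases hs : s = 0
      · simp [hs]
      · simp [hs]
    simp only [e]
    rw [Finset.sum_ite]
    simp only [Finset.sum_const_zero, zero_add, Finset.sum_const, nsmul_eq_mul, mul_one]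
    have e2 : (Finset.univ.filter (fun s : K => ¬ s = 0)) = Finset.univ \ {0} := by
      ext s; simp
    rw [e2, Finset.card_sdiff_of_subset (Finset.subset_univ _), Finset.card_singleton, Finset.card_univ, Nat.cast_sub Fintype.card_pos, FiniteField.cast_card_eq_zero]
    simp [CharTwo.neg_eq]
  have h1 : ∀ i ∈ Finset.range k, ∑ s : K, s ^ (2 ^ (i + 1)) * s⁻¹ = 0 := by
    intro i hi
    have hi' : i < k := Finset.mem_range.mp hi
    have hp : 1 ≤ 2 ^ (i + 1) := Nat.one_le_two_pow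
    have hlt : 2 ^ (i + 1) - 1 < Fintype.card K - 1 := by
      rw [hK]
      have : 2 ^ (i + 1) < 2 ^ (k + 1) := Nat.pow_lt_pow_right (by norm_num) (by omega)
      omega
    have := FiniteField.sum_pow_lt_card_sub_one K (2 ^ (i + 1) - 1) hlt
    rw [← this]
    apply Finset.sum_congr rfl
    intro s _
    by_cases hs : s = 0
    · have : 2 ^ (i + 1) - 1 ≠ 0 := by
        have : 2 ^ 1 ≤ 2 ^ (i + 1) := Nat.pow_le_pow_right (by norm_num) (by omega)
        omega
      simp [hs, this]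
    · have : s ^ (2 ^ (i + 1)) = s ^ (2 ^ (i + 1) - 1) * s := by
        rw [← pow_succ]; congr 1; omega
      rw [this]
      field_simp
  rw [Finset.sum_eq_zero h1, zero_add]
  exact h0

/-- The set of nonzero elements with inverse of trace one has sum one. -/
lemma sum_filter_tr {n : ℕ} (hK : Fintype.card K = 2 ^ n) (hn : 1 ≤ n) [DecidableEq K] :
    ∑ t ∈ Finset.univ.filter (fun t : K => tr n t⁻¹ = 1), t = 1 := by
  rw [Finset.sum_filter]
  have e : ∀ t : K, (if tr n t⁻¹ = 1 then t else 0) = tr n t⁻¹ * t := by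
    intro t
    rcases tr_cases hK t⁻¹ with h | h
    · simp [h]
    · simp [h]
  simp only [e]
  rw [← sum_tr hK hn]
  apply Fintype.sum_equiv (Equiv.inv K)
  intro t
  simp


/-- The subgroup of `Ω₀` of fixed vectors. -/
def fixSub (K : Type*) [Field K] [CharP K 2] [Finite K] {M : Type*} [AddCommGroup M] [DistribMulAction SL(2, K) M]
    (Ω₀ : AddSubgroup M) : AddSubgroup M where
  carrier := {z | z ∈ Ω₀ ∧ FixS K z}
  add_mem' := fun ha hb => ⟨Ω₀.add_mem ha.1 hb.1, fixS_add ha.2 hb.2⟩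
  zero_mem' := ⟨Ω₀.zero_mem, fixS_zero⟩
  neg_mem' := fun {a} ha => ⟨Ω₀.neg_mem ha.1, by
    have := fixS_sub (K := K) fixS_zero ha.2
    rwa [zero_sub] at this⟩

section lemmaC

variable {Ω₀ Ω₁ : AddSubgroup M} {m : M}

/-- Additivity modulo `Ω₀` of the scalars. -/
lemma kappa_add [DecidableEq K] (hN : Norm0 K M) (st₀ : Stable K Ω₀) (hg : ∀ d : K, (al d : SL(2, K)) • m - m ∈ Ω₀)
    (h2m : ∀ g' : SL(2, K), g' • m + g' • m ∈ Ω₀) (a b : K) :
    (if a = 0 then 0 else hh a • m) + (if b = 0 then 0 else hh b • m)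
      - (if a + b = 0 then 0 else hh (a + b) • m) ∈ Ω₀ := by
  by_cases ha : a = 0
  · subst ha
    simp only [if_true, zero_add]
    rw [sub_self]
    exact Ω₀.zero_mem
  by_cases hb : b = 0
  · subst hb
    simp only [if_true, add_zero]
    rw [sub_self]
    exact Ω₀.zero_mem
  by_cases hab : a + b = 0
  · have hab' : a = b := by
      have h2 : (2 : K) = 0 := two_zero
      linear_combination hab - b * h2
    subst hab'
    simp only [ha, if_false, hab, if_true, sub_zero]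
    exact h2m _
  · simp only [ha, hb, hab, if_false]
    have h := rel_hh hN st₀ hg h2m ha hb hab
    have e : hh a • m + hh b • m - hh (a + b) • m
        = (hh a • m + hh b • m + hh (a + b) • m) - (hh (a + b) • m + hh (a + b) • m) := by abel
    rw [e]
    exact Ω₀.sub_mem h (h2m _)

lemma sum_kappa [DecidableEq K] (hN : Norm0 K M) (st₀ : Stable K Ω₀) (hg : ∀ d : K, (al d : SL(2, K)) • m - m ∈ Ω₀)
    (h2m : ∀ g' : SL(2, K), g' • m + g' • m ∈ Ω₀) (A : Finset K) (hA : ∀ t ∈ A, t ≠ 0) :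
    ∑ t ∈ A, hh t • m - (if ∑ t ∈ A, t = 0 then 0 else hh (∑ t ∈ A, t) • m) ∈ Ω₀ := by
  induction A using Finset.induction_on with
  | empty => simp
  | insert a A ha ih =>
    rw [Finset.sum_insert ha, Finset.sum_insert ha]
    have h1 := ih (fun t ht => hA t (Finset.mem_insert_of_mem ht))
    have h2 := kappa_add hN st₀ hg h2m a (∑ t ∈ A, t)
    have ha0 : a ≠ 0 := hA a (Finset.mem_insert_self a A)
    simp only [ha0, if_false] at h2
    have := Ω₀.add_mem h1 h2
    convert this using 1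
    abel

/-- **Key lemma.** -/
theorem lemma_C {n : ℕ} (hK : Fintype.card K = 2 ^ n) (hn : 2 ≤ n) (P : Pair K Ω₀ Ω₁) (hm : m ∈ Ω₁)
    (hg : ∀ d : K, (al d : SL(2, K)) • m - m ∈ Ω₀) :
    m + m = 0 ∧ ∃ ω ∈ Ω₀, FixS K (m + ω) := by
  classical
  have hN := P.norm
  have st₀ := P.st₀
  have st₁ := P.st₁
  have two₀ := P.two₀
  have hcard : ∃ a : K, a ≠ 0 ∧ a ≠ 1 := by
    by_contra h
    push Not at h
    have hsub : (Finset.univ : Finset K) ⊆ {0, 1} := by
      intro a _
      by_cases ha : a = 0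
      · simp [ha]
      · simp [h a ha]
    have h1 := Finset.card_le_card hsub
    rw [Finset.card_univ, hK] at h1
    have h2 : ({0, 1} : Finset K).card ≤ 2 := Finset.card_le_two
    have h3 : 2 ^ 2 ≤ 2 ^ n := Nat.pow_le_pow_right (by norm_num) hn
    omega
  have y_mem : m + m ∈ Ω₀ := P.two₁ m hm
  have h2m : ∀ g' : SL(2, K), g' • m + g' • m ∈ Ω₀ := by
    intro g'
    rw [← smul_add]
    exact st₀ _ _ y_mem
  have y_fix : FixS K (m + m) := by
    intro d
    have h2 := two₀ _ (hg d)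
    rw [smul_add]
    calc (al d : SL(2, K)) • m + (al d : SL(2, K)) • m
        = m + m + (((al d : SL(2, K)) • m - m) + ((al d : SL(2, K)) • m - m)) := by abel
      _ = m + m := by rw [h2, add_zero]
  -- the averaged element
  set A := Finset.univ.filter (fun t : K => tr n t⁻¹ = 1) with hA
  have hA0 : ∀ t ∈ A, t ≠ 0 := by
    intro t ht h0
    have := (Finset.mem_filter.mp ht).2
    rw [h0, _root_.inv_zero, tr_zero] at this
    exact zero_ne_one this
  set m₁ := ∑ t ∈ A, hh t • m with hm₁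
  have hdiff : m₁ - m ∈ Ω₀ := by
    have := sum_kappa hN st₀ hg h2m A hA0
    rw [sum_filter_tr hK (by omega)] at this
    simpa [hh_one] using this
  have hm₁₁ : m₁ ∈ Ω₁ := Ω₁.sum_mem (fun t _ => st₁ _ _ hm)
  have hg₁ : ∀ d : K, (al d : SL(2, K)) • m₁ - m₁ ∈ Ω₀ := by
    intro d
    have e : (al d : SL(2, K)) • m₁ - m₁ = ((al d : SL(2, K)) • m - m) + ((al d : SL(2, K)) • (m₁ - m) - (m₁ - m)) := by
      rw [smul_sub]; abel
    rw [e]
    exact Ω₀.add_mem (hg d) (Ω₀.sub_mem (st₀ _ _ hdiff) hdiff)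
  -- the scalars on `m₁`
  set F : K → K → M := fun c s => if tr n (c * s⁻¹) = 1 then hh s • m else 0 with hF
  have hh_m₁ : ∀ c : K, c ≠ 0 → hh c • m₁ = ∑ s : K, F c s := by
    intro c hc
    rw [hm₁, Finset.smul_sum, hA, Finset.sum_filter]
    have e : ∀ t : K, (if tr n t⁻¹ = 1 then hh c • hh t • m else 0) = F c (c * t) := by
      intro t
      simp only [hF]
      have e1 : c * (c * t)⁻¹ = t⁻¹ := by
        rw [mul_inv, ← mul_assoc, mul_inv_cancel₀ hc, one_mul]
      rw [e1]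
      by_cases ht : tr n t⁻¹ = 1
      · have ht0 : t ≠ 0 := by
          intro h0
          rw [h0, _root_.inv_zero, tr_zero] at ht
          exact zero_ne_one ht
        simp only [ht, if_true, ← mul_smul, hh_mul hc ht0]
      · simp only [ht, if_false]
    have e' : ∀ t : K, (if tr n t⁻¹ = 1 then hh c • hh t • m else 0) = F c (c * t) := e
    calc ∑ t : K, (if tr n t⁻¹ = 1 then hh c • hh t • m else 0) = ∑ t : K, F c (c * t) :=
          Finset.sum_congr rfl (fun t _ => e' t)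
      _ = ∑ s : K, F c s := by
          apply Fintype.sum_equiv (Equiv.mulLeft₀ c hc)
          intro t
          rfl
  have hK' : ∀ c₁ c₂ : K, c₁ ≠ 0 → c₂ ≠ 0 → c₁ + c₂ ≠ 0 →
      hh c₁ • m₁ + hh c₂ • m₁ - hh (c₁ + c₂) • m₁ ∈ Ω₀ ∧ FixS K (hh c₁ • m₁ + hh c₂ • m₁ - hh (c₁ + c₂) • m₁) := by
    intro c₁ c₂ h₁ h₂ h₁₂
    rw [hh_m₁ c₁ h₁, hh_m₁ c₂ h₂, hh_m₁ _ h₁₂, ← Finset.sum_add_distrib, ← Finset.sum_sub_distrib]
    have : ∑ s : K, (F c₁ s + F c₂ s - F (c₁ + c₂) s) ∈ fixSub K Ω₀ := by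
      apply AddSubgroup.sum_mem
      intro s _
      simp only [hF]
      have etr : tr n ((c₁ + c₂) * s⁻¹) = tr n (c₁ * s⁻¹) + tr n (c₂ * s⁻¹) := by
        rw [add_mul, tr_add]
      rcases tr_cases hK (c₁ * s⁻¹) with h | h <;> rcases tr_cases hK (c₂ * s⁻¹) with h' | h'
      · have : tr n ((c₁ + c₂) * s⁻¹) = 0 := by rw [etr, h, h', add_zero]
        simp only [h, h', this, zero_ne_one, if_false, add_zero, sub_zero]
        exact (fixSub K Ω₀).zero_mem
      · have : tr n ((c₁ + c₂) * s⁻¹) = 1 := by rw [etr, h, h', zero_add]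
        simp only [h, h', this, zero_ne_one, if_false, if_true, zero_add, sub_self]
        exact (fixSub K Ω₀).zero_mem
      · have : tr n ((c₁ + c₂) * s⁻¹) = 1 := by rw [etr, h, h', add_zero]
        simp only [h, h', this, zero_ne_one, if_false, if_true, add_zero, sub_self]
        exact (fixSub K Ω₀).zero_mem
      · have : tr n ((c₁ + c₂) * s⁻¹) = 0 := by
          rw [etr, h, h']; exact CharTwo.add_self_eq_zero _
        simp only [h, h', this, zero_ne_one, if_false, if_true, sub_zero]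
        have hs : s ≠ 0 := by
          intro h0
          rw [h0, _root_.inv_zero, mul_zero, tr_zero] at h
          exact zero_ne_one h
        rw [← smul_add]
        exact ⟨st₀ _ _ y_mem, fixS_hh y_fix hs⟩
    exact this
  obtain ⟨h2, ω, hω, hfix⟩ := main_part P hm₁₁ hg₁ hK' hcard
  constructor
  · have h2d := two₀ _ hdiff
    calc m + m = (m₁ + m₁) - ((m₁ - m) + (m₁ - m)) := by abel
      _ = 0 := by rw [h2, h2d, sub_zero]
  · refine ⟨(m₁ - m) + ω, Ω₀.add_mem hdiff hω, ?_⟩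
    have e : m + (m₁ - m + ω) = m₁ + ω := by abel
    rwa [e]

end lemmaC

section theorems

variable {n : ℕ} (hK : Fintype.card K = 2 ^ n) (hn : 2 ≤ n) (hN : Norm0 K M)
include hK hn hN

/-- **Semisimplicity.** A stable subgroup of exponent two is the sum of its fixed vectors and their `w`-images. -/
theorem semisimple {Ω : AddSubgroup M} (st : Stable K Ω) (two : ∀ z ∈ Ω, z + z = 0) :
    ∀ z ∈ Ω, ∃ z₁ z₂, z₁ ∈ Ω ∧ FixS K z₁ ∧ z₂ ∈ Ω ∧ FixS K z₂ ∧ z = z₁ + W • z₂ := by
  -- the candidate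
  let Ω₀ : AddSubgroup M :=
    { carrier := {z | ∃ z₁ z₂, z₁ ∈ Ω ∧ FixS K z₁ ∧ z₂ ∈ Ω ∧ FixS K z₂ ∧ z = z₁ + W • z₂}
      add_mem' := by
        rintro a b ⟨a₁, a₂, ha₁, fa₁, ha₂, fa₂, rfl⟩ ⟨b₁, b₂, hb₁, fb₁, hb₂, fb₂, rfl⟩
        refine ⟨a₁ + b₁, a₂ + b₂, Ω.add_mem ha₁ hb₁, fixS_add fa₁ fb₁, Ω.add_mem ha₂ hb₂, fixS_add fa₂ fb₂, ?_⟩
        rw [smul_add]; abel
      zero_mem' := ⟨0, 0, Ω.zero_mem, fixS_zero, Ω.zero_mem, fixS_zero, by simp⟩
      neg_mem' := by
        rintro a ⟨a₁, a₂, ha₁, fa₁, ha₂, fa₂, rfl⟩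
        refine ⟨-a₁, -a₂, Ω.neg_mem ha₁, ?_, Ω.neg_mem ha₂, ?_, ?_⟩
        · have := fixS_sub (K := K) fixS_zero fa₁
          rwa [zero_sub] at this
        · have := fixS_sub (K := K) fixS_zero fa₂
          rwa [zero_sub] at this
        · rw [smul_neg]; abel }
  have memΩ₀ : ∀ z, z ∈ Ω₀ ↔ ∃ z₁ z₂, z₁ ∈ Ω ∧ FixS K z₁ ∧ z₂ ∈ Ω ∧ FixS K z₂ ∧ z = z₁ + W • z₂ :=
    fun z => Iff.rfl
  have le_of_fix : ∀ u, u ∈ Ω → FixS K u → u ∈ Ω₀ := by
    intro u hu fu
    exact ⟨u, 0, hu, fu, Ω.zero_mem, fixS_zero, by simp⟩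
  have hle : Ω₀ ≤ Ω := by
    rintro z ⟨z₁, z₂, h₁, -, h₂, -, rfl⟩
    exact Ω.add_mem h₁ (st _ _ h₂)
  -- the action on fixed vectors stays in `Ω₀`
  have act : ∀ (g : SL(2, K)) (u : M), u ∈ Ω → FixS K u → g • u ∈ Ω₀ := by
    intro g u hu fu
    have hy : ∀ d : K, (al d : SL(2, K)) • u - u ∈ (⊥ : AddSubgroup M) := by
      intro d'; rw [AddSubgroup.mem_bot, fu d', sub_self]
    have h2 : ∀ g' : SL(2, K), g' • u + g' • u ∈ (⊥ : AddSubgroup M) := by
      intro g'; rw [AddSubgroup.mem_bot]; exact two _ (st _ _ hu)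
    by_cases ha : g.1 0 0 = 0
    · have hb : g.1 1 0 ≠ 0 := by
        intro hb
        apply col_ne_zero g
        apply col_ext
        · rw [col0, ha]; rfl
        · rw [col1, hb]; rfl
      have := rel_col_zero (stable_bot (K := K)) hy ha hb
      rw [AddSubgroup.mem_bot, sub_eq_zero, mul_smul] at this
      rw [this]
      refine ⟨0, hh (g.1 1 0) • u, Ω.zero_mem, fixS_zero, st _ _ hu, fixS_hh fu hb, by simp⟩
    · by_cases hb : g.1 1 0 = 0
      · have := rel_col_one (stable_bot (K := K)) hy ha hb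
        rw [AddSubgroup.mem_bot, sub_eq_zero] at this
        rw [this]
        exact le_of_fix _ (st _ _ hu) (fixS_hh fu ha)
      · have := rel_gen hN (stable_bot (K := K)) hy h2 ha hb
        rw [AddSubgroup.mem_bot, mul_smul] at this
        have e := solve3 this (two _ (st _ _ hu)) (two _ (st _ _ (st _ _ hu)))
        rw [e]
        exact ⟨_, _, st _ _ hu, fixS_hh fu ha, st _ _ hu, fixS_hh fu hb, rfl⟩
  have st₀ : Stable K Ω₀ := by
    rintro g z ⟨z₁, z₂, h₁, f₁, h₂, f₂, rfl⟩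
    rw [smul_add, ← mul_smul]
    exact Ω₀.add_mem (act g z₁ h₁ f₁) (act _ z₂ h₂ f₂)
  have P : Pair K Ω₀ Ω := by
    refine ⟨hN, st₀, st, hle, fun z hz => two z (hle hz), fun z hz => ?_, ?_⟩
    · rw [two z hz]; exact Ω₀.zero_mem
    · rintro z ⟨z₁, z₂, h₁, f₁, h₂, f₂, rfl⟩
      exact ⟨z₁, z₂, le_of_fix _ h₁ f₁, f₁, le_of_fix _ h₂ f₂, f₂, rfl⟩
  intro z hz
  by_contra hcontra
  have hz₀ : z ∉ Ω₀ := fun h => hcontra h
  obtain ⟨m, hm₁, hm₀, hm⟩ := exists_fixed_mod st₀ st (fun w hw => by rw [two w hw]; exact Ω₀.zero_mem) hz hz₀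
  obtain ⟨-, ω, hω, hfix⟩ := lemma_C hK hn P hm₁ hm
  apply hm₀
  have h1 : m + ω ∈ Ω₀ := le_of_fix _ (Ω.add_mem hm₁ (hle hω)) hfix
  have : m = (m + ω) - ω := by abel
  rw [this]
  exact Ω₀.sub_mem h1 hω

/-- **Exponent two.** -/
theorem exp_two (h2 : ∀ m : M, ∃ k : ℕ, 2 ^ k • m = 0) (m : M) : m + m = 0 := by
  let Ω₀ : AddSubgroup M :=
    { carrier := {z | z + z = 0}
      add_mem' := by
        intro a b ha hb
        simp only [Set.mem_ofPred_eq] at ha hb ⊢
        calc a + b + (a + b) = (a + a) + (b + b) := by abel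
          _ = 0 := by rw [ha, hb, add_zero]
      zero_mem' := by simp
      neg_mem' := by
        intro a ha
        simp only [Set.mem_ofPred_eq] at ha ⊢
        calc -a + -a = -(a + a) := by abel
          _ = 0 := by rw [ha, neg_zero] }
  let Ω₁ : AddSubgroup M :=
    { carrier := {z | z + z ∈ Ω₀}
      add_mem' := by
        intro a b ha hb
        simp only [Set.mem_ofPred_eq] at ha hb ⊢
        have : a + b + (a + b) = (a + a) + (b + b) := by abel
        rw [this]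
        exact Ω₀.add_mem ha hb
      zero_mem' := by simp [Ω₀.zero_mem]
      neg_mem' := by
        intro a ha
        simp only [Set.mem_ofPred_eq] at ha ⊢
        have : -a + -a = -(a + a) := by abel
        rw [this]
        exact Ω₀.neg_mem ha }
  have mem₀ : ∀ z, z ∈ Ω₀ ↔ z + z = 0 := fun z => Iff.rfl
  have mem₁ : ∀ z, z ∈ Ω₁ ↔ z + z ∈ Ω₀ := fun z => Iff.rfl
  have st₀ : Stable K Ω₀ := by
    intro g z hz
    rw [mem₀] at hz ⊢
    rw [← smul_add, hz, smul_zero]
  have st₁ : Stable K Ω₁ := by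
    intro g z hz
    rw [mem₁] at hz ⊢
    rw [← smul_add]
    exact st₀ _ _ hz
  have hle : Ω₀ ≤ Ω₁ := by
    intro z hz
    rw [mem₁]
    exact Ω₀.add_mem hz hz
  have P : Pair K Ω₀ Ω₁ := by
    refine ⟨hN, st₀, st₁, hle, fun z hz => hz, fun z hz => hz, ?_⟩
    exact semisimple hK hn hN st₀ (fun z hz => hz)
  have key : ∀ z : M, z ∈ Ω₁ → z ∈ Ω₀ := by
    intro z hz
    by_contra hz₀
    obtain ⟨m', hm₁, hm₀, hm⟩ := exists_fixed_mod st₀ st₁ (fun w hw => hw) hz hz₀
    obtain ⟨e, -⟩ := lemma_C hK hn P hm₁ hm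
    exact hm₀ e
  obtain ⟨k, hk⟩ := h2 m
  induction k generalizing m with
  | zero => 
    have : m = 0 := by simpa using hk
    rw [this, add_zero]
  | succ k ih =>
    have e : 2 ^ k • (m + m) = 0 := by
      calc 2 ^ k • (m + m) = 2 ^ k • (2 • m) := by rw [two_nsmul]
        _ = (2 ^ k * 2) • m := by rw [mul_smul]
        _ = 0 := by rw [← pow_succ]; exact hk
    have h1 := ih (m + m) e
    exact key m h1

/-- **Faithfulness.** -/
theorem eq_one_of_trivial_on (h2 : ∀ m : M, ∃ k : ℕ, 2 ^ k • m = 0) {Ω : AddSubgroup M} (st : Stable K Ω)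
    {u₀ : M} (hu₀ : u₀ ∈ Ω) (hne : u₀ ≠ 0) {z : SL(2, K)} (hz : ∀ u ∈ Ω, z • u = u) : z = 1 := by
  have two : ∀ m : M, m + m = 0 := exp_two hK hn hN h2
  by_contra hz1
  obtain ⟨m, hm, hm0, hfix⟩ := exists_fixed_mod (K := K) (Ω₀ := ⊥) (Ω₁ := Ω) stable_bot st
    (fun w _ => by rw [two w]; exact AddSubgroup.zero_mem _) hu₀ (by simpa using hne)
  have hm0' : m ≠ 0 := by simpa using hm0
  have hy : ∀ d : K, (al d : SL(2, K)) • m - m ∈ (⊥ : AddSubgroup M) := hfix
  have h2' : ∀ g' : SL(2, K), g' • m + g' • m ∈ (⊥ : AddSubgroup M) := by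
    intro g'; rw [AddSubgroup.mem_bot]; exact two _
  -- a column moved by `z`
  have hex : ∃ g : SL(2, K), col (z * g) + col g ≠ 0 := by
    by_contra hno
    push Not at hno
    have h1 := hno 1
    have h2 := hno wm
    apply hz1
    have two' : (2 : K) = 0 := two_zero
    have a0 := congrFun h1 0
    have a1 := congrFun h1 1
    have b0 := congrFun h2 0
    have b1 := congrFun h2 1
    simp only [Pi.add_apply, Pi.zero_apply, col0, col1, mul00, mul10, one00, one01, one10, one11, wm00, wm01, wm10, wm11] at a0 a1 b0 b1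
    apply ext2
    · rw [one00]; linear_combination a0 - two'
    · rw [one01]; linear_combination b0
    · rw [one10]; linear_combination a1
    · rw [one11]; linear_combination b1 - two'
  obtain ⟨g, hg⟩ := hex
  obtain ⟨g₃, hg₃⟩ := exists_col hg
  have := rel hN (stable_bot (K := K)) hy h2' (g₁ := z * g) (g₂ := g) (g₃ := g₃) (by
    rw [hg₃]
    funext i
    simp only [Pi.add_apply, Pi.zero_apply]
    linear_combination (col (z * g) i + col g i) * (two_zero (K := K)))
  rw [AddSubgroup.mem_bot, mul_smul, hz _ (st _ _ hm), two _, zero_add] at this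
  exact hm0' ((smul_eq_zero_iff_eq g₃).mp this)

end theorems

end Cfsg.Agent.Lib.SL2Fpf.Main2
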