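import Mathlib

/-!
# Explicit matrices in `SL₂(K)`, `K` a finite field of characteristic two

The elements `al d`, `wm`, `hh t`, `x0` and the first-column calculus used for the study of modules on
which `x0` has zero norm.
-/

set_option autoImplicit false
set_option linter.unusedSectionVars false

open scoped MatrixGroups
open Matrix

namespace Cfsg.Agent.Lib.SL2Fpf.Mat

variable {K : Type*} [Field K] [CharP K 2]

lemma two_zero : (2 : K) = 0 := by exact_mod_cast CharP.cast_eq_zero K 2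

lemma ext2 {A B : SL(2, K)} (h00 : A.1 0 0 = B.1 0 0) (h01 : A.1 0 1 = B.1 0 1)
    (h10 : A.1 1 0 = B.1 1 0) (h11 : A.1 1 1 = B.1 1 1) : A = B := by
  apply Subtype.ext
  ext i j
  fin_cases i <;> fin_cases j <;> assumption

lemma mul00 (A B : SL(2, K)) : (A * B).1 0 0 = A.1 0 0 * B.1 0 0 + A.1 0 1 * B.1 1 0 := by
  simp [Matrix.mul_apply, Fin.sum_univ_two, Matrix.SpecialLinearGroup.coe_mul]
lemma mul01 (A B : SL(2, K)) : (A * B).1 0 1 = A.1 0 0 * B.1 0 1 + A.1 0 1 * B.1 1 1 := by
  simp [Matrix.mul_apply, Fin.sum_univ_two, Matrix.SpecialLinearGroup.coe_mul]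
lemma mul10 (A B : SL(2, K)) : (A * B).1 1 0 = A.1 1 0 * B.1 0 0 + A.1 1 1 * B.1 1 0 := by
  simp [Matrix.mul_apply, Fin.sum_univ_two, Matrix.SpecialLinearGroup.coe_mul]
lemma mul11 (A B : SL(2, K)) : (A * B).1 1 1 = A.1 1 0 * B.1 0 1 + A.1 1 1 * B.1 1 1 := by
  simp [Matrix.mul_apply, Fin.sum_univ_two, Matrix.SpecialLinearGroup.coe_mul]

lemma det_eq (g : SL(2, K)) : g.1 0 0 * g.1 1 1 - g.1 0 1 * g.1 1 0 = 1 := by
  have := g.2
  rwa [Matrix.det_fin_two] at this

lemma one00 : (1 : SL(2, K)).1 0 0 = 1 := by simp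
lemma one01 : (1 : SL(2, K)).1 0 1 = 0 := by simp
lemma one10 : (1 : SL(2, K)).1 1 0 = 0 := by simp
lemma one11 : (1 : SL(2, K)).1 1 1 = 1 := by simp

/-- The upper unitriangular matrix. -/
def al (d : K) : SL(2, K) := ⟨!![1, d; 0, 1], by simp [Matrix.det_fin_two]⟩

/-- The swap matrix. -/
def wm : SL(2, K) := ⟨!![0, 1; 1, 0], by simp [Matrix.det_fin_two, CharTwo.neg_eq]⟩

/-- A fixed element of order three. -/
def x0 : SL(2, K) := ⟨!![0, 1; 1, 1], by simp [Matrix.det_fin_two, CharTwo.neg_eq]⟩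

open Classical in
/-- The diagonal matrix `diag(t, t⁻¹)` (`1` for `t = 0`). -/
noncomputable def hh (t : K) : SL(2, K) :=
  if ht : t = 0 then 1 else ⟨!![t, 0; 0, t⁻¹], by simp [Matrix.det_fin_two, ht]⟩

section entries
lemma al00 (d : K) : (al d).1 0 0 = 1 := rfl
lemma al01 (d : K) : (al d).1 0 1 = d := rfl
lemma al10 (d : K) : (al d).1 1 0 = 0 := rfl
lemma al11 (d : K) : (al d).1 1 1 = 1 := rfl
lemma wm00 : (wm : SL(2, K)).1 0 0 = 0 := rfl
lemma wm01 : (wm : SL(2, K)).1 0 1 = 1 := rfl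
lemma wm10 : (wm : SL(2, K)).1 1 0 = 1 := rfl
lemma wm11 : (wm : SL(2, K)).1 1 1 = 0 := rfl
lemma x000 : (x0 : SL(2, K)).1 0 0 = 0 := rfl
lemma x001 : (x0 : SL(2, K)).1 0 1 = 1 := rfl
lemma x010 : (x0 : SL(2, K)).1 1 0 = 1 := rfl
lemma x011 : (x0 : SL(2, K)).1 1 1 = 1 := rfl
lemma hh00 {t : K} (ht : t ≠ 0) : (hh t).1 0 0 = t := by simp [hh, ht]
lemma hh01 {t : K} (ht : t ≠ 0) : (hh t).1 0 1 = 0 := by simp [hh, ht]
lemma hh10 {t : K} (ht : t ≠ 0) : (hh t).1 1 0 = 0 := by simp [hh, ht]
lemma hh11 {t : K} (ht : t ≠ 0) : (hh t).1 1 1 = t⁻¹ := by simp [hh, ht]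
end entries

lemma al_add (c d : K) : al c * al d = al (c + d) := by
  apply ext2 <;> simp only [mul00, mul01, mul10, mul11, al00, al01, al10, al11] <;> ring

lemma al_zero : al (0 : K) = 1 := by
  apply ext2 <;> simp only [al00, al01, al10, al11, one00, one01, one10, one11]

lemma al_sq (d : K) : al d * al d = 1 := by
  rw [al_add, CharTwo.add_self_eq_zero, al_zero]

lemma wm_sq : (wm : SL(2, K)) * wm = 1 := by
  apply ext2 <;> simp only [mul00, mul01, mul10, mul11, wm00, wm01, wm10, wm11, one00, one01, one10, one11] <;> simp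

lemma x0_eq : (x0 : SL(2, K)) = wm * al 1 := by
  apply ext2 <;> simp only [mul00, mul01, mul10, mul11, wm00, wm01, wm10, wm11, al00, al01, al10, al11, x000, x001, x010, x011] <;> simp

lemma x0_sq_eq : (x0 : SL(2, K)) * x0 = al 1 * wm := by
  apply ext2 <;> simp only [mul00, mul01, mul10, mul11, wm00, wm01, wm10, wm11, al00, al01, al10, al11, x000, x001, x010, x011] <;> simp [CharTwo.add_self_eq_zero]

lemma x0_cube : (x0 : SL(2, K)) * x0 * x0 = 1 := by
  apply ext2 <;> simp only [mul00, mul01, mul10, mul11, x000, x001, x010, x011, one00, one01, one10, one11] <;> simp [CharTwo.add_self_eq_zero]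

lemma hh_mul {s t : K} (hs : s ≠ 0) (ht : t ≠ 0) : hh s * hh t = hh (s * t) := by
  have hst : s * t ≠ 0 := mul_ne_zero hs ht
  apply ext2 <;> simp only [mul00, mul01, mul10, mul11, hh00, hh01, hh10, hh11, hs, ht, hst, ne_eq, not_false_eq_true] <;> simp [mul_comm]

lemma hh_one : hh (1 : K) = 1 := by
  apply ext2 <;> simp only [hh00, hh01, hh10, hh11, one00, one01, one10, one11, one_ne_zero, ne_eq, not_false_eq_true] <;> simp

lemma hh_zero : hh (0 : K) = 1 := by simp [hh]

lemma hh_inv {s : K} (hs : s ≠ 0) : (hh s)⁻¹ = hh s⁻¹ := by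
  rw [eq_comm, ← mul_eq_one_iff_eq_inv, hh_mul (inv_ne_zero hs) hs, inv_mul_cancel₀ hs, hh_one]

/-- Moving `al` past a diagonal matrix. -/
lemma al_mul_hh (d : K) {c : K} (hc : c ≠ 0) : al d * hh c = hh c * al (d / c ^ 2) := by
  apply ext2 <;> simp only [mul00, mul01, mul10, mul11, hh00, hh01, hh10, hh11, al00, al01, al10, al11, hc, ne_eq, not_false_eq_true]
  · ring
  · field_simp
    ring
  · ring
  · ring

/-- The first column. -/
def col (g : SL(2, K)) : Fin 2 → K := ![g.1 0 0, g.1 1 0]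

lemma col0 (g : SL(2, K)) : col g 0 = g.1 0 0 := rfl
lemma col1 (g : SL(2, K)) : col g 1 = g.1 1 0 := rfl

lemma col_ne_zero (g : SL(2, K)) : col g ≠ 0 := by
  intro h
  have h0 : g.1 0 0 = 0 := by simpa [col0] using congrFun h 0
  have h1 : g.1 1 0 = 0 := by simpa [col1] using congrFun h 1
  have := det_eq g
  rw [h0, h1] at this
  simp at this

lemma col_ext {v u : Fin 2 → K} (h0 : v 0 = u 0) (h1 : v 1 = u 1) : v = u := by
  funext i; fin_cases i <;> assumption

/-- Two elements with the same first column differ by an `al`. -/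
lemma eq_mul_al_of_col_eq {g g' : SL(2, K)} (h : col g = col g') : ∃ a, g = g' * al a := by
  have h0 : g.1 0 0 = g'.1 0 0 := congrFun h 0
  have h1 : g.1 1 0 = g'.1 1 0 := congrFun h 1
  refine ⟨g'.1 1 1 * g.1 0 1 - g'.1 0 1 * g.1 1 1, ?_⟩
  have d := det_eq g
  have d' := det_eq g'
  rw [h0, h1] at d
  apply ext2 <;> simp only [mul00, mul01, mul10, mul11, al00, al01, al10, al11]
  · rw [h0]; ring
  · linear_combination (-g.1 0 1) * d' + (g'.1 0 1) * d
  · rw [h1]; ring
  · linear_combination (-g.1 1 1) * d' + (g'.1 1 1) * d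

/-- Every nonzero vector is a first column. -/
lemma exists_col {v : Fin 2 → K} (hv : v ≠ 0) : ∃ g : SL(2, K), col g = v := by
  by_cases h0 : v 0 = 0
  · have h1 : v 1 ≠ 0 := by
      intro h1
      apply hv
      funext i
      fin_cases i
      · exact h0
      · exact h1
    refine ⟨⟨!![0, (v 1)⁻¹; v 1, 0], ?_⟩, ?_⟩
    · simp [Matrix.det_fin_two, h1, CharTwo.neg_eq]
    · apply col_ext
      · simp [col, h0]
      · simp [col]
  · refine ⟨⟨!![v 0, 0; v 1, (v 0)⁻¹], ?_⟩, ?_⟩
    · simp [Matrix.det_fin_two, h0]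
    · apply col_ext <;> simp [col]

section finite
variable [Finite K]

lemma exists_sqrt (a : K) : ∃ r : K, r ^ 2 = a := by
  have : Fintype K := Fintype.ofFinite K
  have hc : ringChar K = 2 := ringChar.eq K 2
  obtain ⟨r, hr⟩ := FiniteField.isSquare_of_char_two hc a
  exact ⟨r, by rw [hr, pow_two]⟩

/-- Independent pair of vectors: a conjugate of `x0` permutes them cyclically. -/
lemma exists_triple {v₁ v₂ : Fin 2 → K} (hD : v₁ 0 * v₂ 1 - v₁ 1 * v₂ 0 ≠ 0) :
    ∃ (g : SL(2, K)) (r : K), r ≠ 0 ∧ col (g * hh r) = v₁ ∧ col (g * x0 * hh r) = v₂ ∧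
      col (g * (x0 * x0) * hh r) = v₁ + v₂ := by
  obtain ⟨r, hr⟩ := exists_sqrt (v₁ 0 * v₂ 1 - v₁ 1 * v₂ 0)
  have hr0 : r ≠ 0 := by
    rintro rfl
    apply hD
    rw [← hr]
    simp
  let g : SL(2, K) := ⟨!![v₁ 0 / r, v₂ 0 / r; v₁ 1 / r, v₂ 1 / r], by
    rw [Matrix.det_fin_two]
    simp only [Matrix.of_apply, Matrix.cons_val', Matrix.cons_val_zero, Matrix.cons_val_one, Matrix.cons_val_fin_one]
    field_simp
    linear_combination -hr⟩
  have g00 : g.1 0 0 = v₁ 0 / r := rfl
  have g01 : g.1 0 1 = v₂ 0 / r := rfl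
  have g10 : g.1 1 0 = v₁ 1 / r := rfl
  have g11 : g.1 1 1 = v₂ 1 / r := rfl
  refine ⟨g, r, hr0, ?_, ?_, ?_⟩
  · apply col_ext
    · rw [col0, mul00, g00, g01, hh00 hr0, hh10 hr0]; field_simp; ring
    · rw [col1, mul10, g10, g11, hh00 hr0, hh10 hr0]; field_simp; ring
  · apply col_ext
    · simp only [col0, mul00, mul01, g00, g01, hh00 hr0, hh10 hr0, x000, x001, x010, x011]; field_simp; ring
    · simp only [col1, mul10, mul11, g10, g11, hh00 hr0, hh10 hr0, x000, x001, x010, x011]; field_simp; ring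
  · have e : (x0 : SL(2, K)) * x0 = al 1 * wm := x0_sq_eq
    apply col_ext
    · rw [e, col0, mul00, mul00, mul01, mul00, mul10, g00, g01, hh00 hr0, hh10 hr0]
      simp only [wm00, wm10, al00, al01, al10, al11, Pi.add_apply]
      field_simp
      ring
    · rw [e, col1, mul10, mul10, mul11, mul00, mul10, g10, g11, hh00 hr0, hh10 hr0]
      simp only [wm00, wm10, al00, al01, al10, al11, Pi.add_apply]
      field_simp
      ring

end finite

section conj3
variable [Finite K]

lemma trace_eq_one {x : SL(2, K)} (h1 : x ≠ 1) (h3 : x * x * x = 1) : x.1 0 0 + x.1 1 1 = 1 := by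
  have d := det_eq x
  have e00 := congrArg (fun A : SL(2, K) => A.1 0 0) h3
  have e01 := congrArg (fun A : SL(2, K) => A.1 0 1) h3
  have e10 := congrArg (fun A : SL(2, K) => A.1 1 0) h3
  have e11 := congrArg (fun A : SL(2, K) => A.1 1 1) h3
  simp only [mul00, mul01, mul10, mul11, one00, one01, one10, one11] at e00 e01 e10 e11
  by_contra hne
  apply h1
  set a := x.1 0 0 with ha
  set b := x.1 0 1 with hb
  set c := x.1 1 0 with hc
  set e := x.1 1 1 with he
  have h2 : (2 : K) = 0 := two_zero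
  have p : b * c = a * e + 1 := by linear_combination -d - h2
  have E00 : a ^ 3 + a * e ^ 2 + e = 1 := by linear_combination e00 - e * p - (a * b * c) * h2
  have E11 : a ^ 2 * e + a + e ^ 3 = 1 := by linear_combination e11 - a * p - (e * b * c) * h2
  have E01 : b * ((a + e) ^ 2 + 1) = 0 := by linear_combination e01 - b * p
  have E10 : c * ((a + e) ^ 2 + 1) = 0 := by linear_combination e10 - c * p
  have T : (a + e) * ((a + e) ^ 2 + 1) = 0 := by
    linear_combination E00 + E11 + (a ^ 2 * e + a * e ^ 2 + 1) * h2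
  have t0 : a + e = 0 := by
    rcases mul_eq_zero.mp T with h | h
    · exact h
    · exfalso
      apply hne
      have : (a + e + 1) ^ 2 = 0 := by linear_combination h + (a + e) * h2
      have := pow_eq_zero_iff (two_ne_zero) |>.mp this
      linear_combination this - h2
  have b0 : b = 0 := by simpa [t0] using E01
  have c0 : c = 0 := by simpa [t0] using E10
  have ea : e = a := by linear_combination t0 - a * h2
  have a1 : a = 1 := by
    have : (a - 1) ^ 2 = 0 := by
      rw [b0, ea] at d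
      linear_combination d + (1 - a) * h2
    have := pow_eq_zero_iff (two_ne_zero) |>.mp this
    linear_combination this
  apply ext2
  · rw [← ha, a1]; simp
  · rw [← hb, b0]; simp
  · rw [← hc, c0]; simp
  · rw [← he, ea, a1]; simp

/-- An element of order dividing three whose lower left entry is nonzero is conjugate to `x0`. -/
lemma exists_conj_of_ne {x : SL(2, K)} (h1 : x ≠ 1) (h3 : x * x * x = 1) (hc : x.1 1 0 ≠ 0) :
    ∃ u : SL(2, K), x * u = u * x0 := by
  have ht := trace_eq_one h1 h3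
  have d := det_eq x
  obtain ⟨r, hr⟩ := exists_sqrt (x.1 1 0)
  have hr0 : r ≠ 0 := by
    rintro rfl
    apply hc
    rw [← hr]
    simp
  let u : SL(2, K) := ⟨!![1 / r, x.1 0 0 / r; 0, x.1 1 0 / r], by
    rw [Matrix.det_fin_two]
    simp only [Matrix.of_apply, Matrix.cons_val', Matrix.cons_val_zero, Matrix.cons_val_one, Matrix.cons_val_fin_one]
    field_simp
    linear_combination -hr⟩
  have u00 : u.1 0 0 = 1 / r := rfl
  have u01 : u.1 0 1 = x.1 0 0 / r := rfl
  have u10 : u.1 1 0 = 0 := rfl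
  have u11 : u.1 1 1 = x.1 1 0 / r := rfl
  have h2 : (2 : K) = 0 := two_zero
  refine ⟨u, ?_⟩
  apply ext2 <;> simp only [mul00, mul01, mul10, mul11, u00, u01, u10, u11, x000, x001, x010, x011]
  · ring
  · have : x.1 1 1 = 1 - x.1 0 0 := by linear_combination ht
    have e : x.1 0 0 * x.1 0 0 + x.1 0 1 * x.1 1 0 = 1 + x.1 0 0 := by
      linear_combination (x.1 0 0) * ht - d - h2
    field_simp
    linear_combination e
  · ring
  · have e : x.1 1 0 * x.1 0 0 + x.1 1 1 * x.1 1 0 = x.1 1 0 := by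
      linear_combination (x.1 1 0) * ht
    field_simp
    linear_combination e

/-- All elements of order three of `SL₂(K)` are conjugate to `x0`. -/
lemma exists_conj {x : SL(2, K)} (h1 : x ≠ 1) (h3 : x * x * x = 1) :
    ∃ u : SL(2, K), x * u = u * x0 := by
  -- reduce to a nonzero lower-left entry by conjugating
  have key : ∀ g : SL(2, K), ((g⁻¹ * x * g).1 1 0 ≠ 0) → ∃ u : SL(2, K), x * u = u * x0 := by
    intro g hg
    have h1' : g⁻¹ * x * g ≠ 1 := by
      intro h
      apply h1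
      have : x * g = g := by
        calc x * g = g * (g⁻¹ * x * g) := by group
          _ = g := by rw [h, mul_one]
      exact mul_eq_right.mp this
    have h3' : (g⁻¹ * x * g) * (g⁻¹ * x * g) * (g⁻¹ * x * g) = 1 := by
      calc (g⁻¹ * x * g) * (g⁻¹ * x * g) * (g⁻¹ * x * g) = g⁻¹ * (x * x * x) * g := by group
        _ = 1 := by rw [h3]; group
    obtain ⟨u, hu⟩ := exists_conj_of_ne h1' h3' hg
    refine ⟨g * u, ?_⟩
    calc x * (g * u) = g * ((g⁻¹ * x * g) * u) := by group
      _ = g * (u * x0) := by rw [hu]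
      _ = g * u * x0 := by group
  by_cases hc : x.1 1 0 = 0
  · by_cases hb : x.1 0 1 = 0
    · -- diagonal case, conjugate by `al 1 * wm`
      apply key (al 1 * wm)
      have e1 : (al (1 : K))⁻¹ = al 1 := by
        rw [eq_comm, ← mul_eq_one_iff_eq_inv, al_sq]
      have e2 : (wm : SL(2, K))⁻¹ = wm := by
        rw [eq_comm, ← mul_eq_one_iff_eq_inv, wm_sq]
      rw [_root_.mul_inv_rev, e1, e2]
      have ht := trace_eq_one h1 h3
      simp only [mul10, mul11, mul00, mul01, wm00, wm10, wm11, wm01, al00, al01, al10, al11, hb, hc]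
      simp only [mul_zero, mul_one, zero_mul, one_mul, add_zero, zero_add]
      rw [ht]
      exact one_ne_zero
    · apply key wm
      have e : (wm : SL(2, K))⁻¹ = wm := by
        rw [eq_comm, ← mul_eq_one_iff_eq_inv, wm_sq]
      rw [e]
      simp only [mul10, mul11, wm00, wm10, wm11, wm01]
      simpa using hb
  · exact exists_conj_of_ne h1 h3 hc

end conj3

end Cfsg.Agent.Lib.SL2Fpf.Mat
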