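import Cfsg.Agent.Lib.SL2Fpf.Mat

/-!
# Modules for `SL₂(K)` on which `x0` has zero norm: the basic relation

Let `M` be an abelian group with an action of `SL₂(K)` (`K` finite of characteristic two) such that
`m + x0 m + x0² m = 0`.  If `y` is fixed by the unitriangular group modulo a stable subgroup `Ω` and `g y + g y ∈ Ω`
for all `g`, then `g₁ y + g₂ y + g₃ y ∈ Ω` whenever the first columns of the `gᵢ` add up to zero.
-/

set_option autoImplicit false
set_option linter.unusedSectionVars false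

open scoped MatrixGroups
open Matrix Cfsg.Agent.Lib.SL2Fpf.Mat

namespace Cfsg.Agent.Lib.SL2Fpf.Rel

variable {K : Type*} [Field K] [CharP K 2] [Finite K]
variable {M : Type*} [AddCommGroup M] [DistribMulAction SL(2, K) M]

/-- The norm of `x0` vanishes on `M`. -/
def Norm0 (K : Type*) [Field K] [CharP K 2] (M : Type*) [AddCommGroup M] [DistribMulAction SL(2, K) M] : Prop :=
  ∀ m : M, m + (x0 : SL(2, K)) • m + ((x0 : SL(2, K)) * x0) • m = 0

/-- Stability under the whole group. -/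
def Stable (K : Type*) [Field K] {M : Type*} [AddCommGroup M] [DistribMulAction SL(2, K) M]
    (Ω : AddSubgroup M) : Prop :=
  ∀ (g : SL(2, K)) (z : M), z ∈ Ω → g • z ∈ Ω

/-- Fixed by the unitriangular group. -/
def FixS (K : Type*) [Field K] [CharP K 2] {M : Type*} [AddCommGroup M] [DistribMulAction SL(2, K) M]
    (m : M) : Prop :=
  ∀ d : K, (al d : SL(2, K)) • m = m

lemma smul_al_sub_mem {Ω : AddSubgroup M} (hΩ : Stable K Ω) {y : M} (hy : ∀ d : K, (al d : SL(2, K)) • y - y ∈ Ω)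
    (g : SL(2, K)) (a : K) : (g * al a) • y - g • y ∈ Ω := by
  have := hΩ g _ (hy a)
  rwa [smul_sub, ← mul_smul] at this

lemma rel_indep (hN : Norm0 K M) {Ω : AddSubgroup M} (hΩ : Stable K Ω) {y : M}
    (hy : ∀ d : K, (al d : SL(2, K)) • y - y ∈ Ω) {g₁ g₂ g₃ : SL(2, K)}
    (hsum : col g₁ + col g₂ + col g₃ = 0)
    (hD : col g₁ 0 * col g₂ 1 - col g₁ 1 * col g₂ 0 ≠ 0) :
    g₁ • y + g₂ • y + g₃ • y ∈ Ω := by
  obtain ⟨g, r, hr, h1, h2, h3⟩ := exists_triple hD
  have hg₃ : col g₃ = col g₁ + col g₂ := by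
    have : col g₃ = -(col g₁ + col g₂) := by
      rw [eq_neg_iff_add_eq_zero, add_comm]; exact hsum
    rw [this]
    funext i
    simp [CharTwo.neg_eq]
  obtain ⟨a₁, ha₁⟩ := eq_mul_al_of_col_eq (g := g₁) (g' := g * hh r) h1.symm
  obtain ⟨a₂, ha₂⟩ := eq_mul_al_of_col_eq (g := g₂) (g' := g * x0 * hh r) h2.symm
  obtain ⟨a₃, ha₃⟩ := eq_mul_al_of_col_eq (g := g₃) (g' := g * (x0 * x0) * hh r) (by rw [hg₃, h3])
  have e₁ := smul_al_sub_mem hΩ hy (g * hh r) a₁
  have e₂ := smul_al_sub_mem hΩ hy (g * x0 * hh r) a₂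
  have e₃ := smul_al_sub_mem hΩ hy (g * (x0 * x0) * hh r) a₃
  rw [← ha₁] at e₁
  rw [← ha₂] at e₂
  rw [← ha₃] at e₃
  have n0 : (g * hh r) • y + (g * x0 * hh r) • y + (g * (x0 * x0) * hh r) • y = 0 := by
    have := hN (hh r • y)
    have := congrArg (fun z => g • z) this
    simp only [smul_add, smul_zero, ← mul_smul] at this
    simpa only [mul_assoc] using this
  have : g₁ • y + g₂ • y + g₃ • y
      = (g₁ • y - (g * hh r) • y) + (g₂ • y - (g * x0 * hh r) • y) + (g₃ • y - (g * (x0 * x0) * hh r) • y)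
        + ((g * hh r) • y + (g * x0 * hh r) • y + (g * (x0 * x0) * hh r) • y) := by abel
  rw [this, n0, add_zero]
  exact Ω.add_mem (Ω.add_mem e₁ e₂) e₃

/-- The basic relation. -/
lemma rel (hN : Norm0 K M) {Ω : AddSubgroup M} (hΩ : Stable K Ω) {y : M}
    (hy : ∀ d : K, (al d : SL(2, K)) • y - y ∈ Ω) (h2 : ∀ g : SL(2, K), g • y + g • y ∈ Ω)
    {g₁ g₂ g₃ : SL(2, K)} (hsum : col g₁ + col g₂ + col g₃ = 0) :
    g₁ • y + g₂ • y + g₃ • y ∈ Ω := by
  by_cases hD : col g₁ 0 * col g₂ 1 - col g₁ 1 * col g₂ 0 ≠ 0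
  · exact rel_indep hN hΩ hy hsum hD
  push Not at hD
  have two : (2 : K) = 0 := two_zero
  -- notation for the vectors
  set v₁ := col g₁ with hv₁
  set v₂ := col g₂ with hv₂
  have hv₃0 : col g₃ 0 = v₁ 0 + v₂ 0 := by
    have := congrFun hsum 0
    simp only [Pi.add_apply, Pi.zero_apply] at this
    linear_combination this - (v₁ 0 + v₂ 0) * two
  have hv₃1 : col g₃ 1 = v₁ 1 + v₂ 1 := by
    have := congrFun hsum 1
    simp only [Pi.add_apply, Pi.zero_apply] at this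
    linear_combination this - (v₁ 1 + v₂ 1) * two
  set u : Fin 2 → K := col (g₁ * wm) with hu
  have hu0 : u 0 = g₁.1 0 1 := by
    rw [hu, col0, mul00, wm00, wm10]; ring
  have hu1 : u 1 = g₁.1 1 1 := by
    rw [hu, col1, mul10, wm00, wm10]; ring
  have hdet : v₁ 0 * u 1 - v₁ 1 * u 0 = 1 := by
    rw [hu0, hu1, hv₁, col0, col1]; linear_combination det_eq g₁
  set t := v₂ 0 * u 1 - v₂ 1 * u 0 with ht
  have hv₂0 : v₂ 0 = t * v₁ 0 := by
    rw [ht]; linear_combination (-v₂ 0) * hdet + (u 0) * hD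
  have hv₂1 : v₂ 1 = t * v₁ 1 := by
    rw [ht]; linear_combination (-v₂ 1) * hdet + (u 1) * hD
  have ht0 : t ≠ 0 := by
    intro h
    apply col_ne_zero g₂
    apply col_ext
    · rw [← hv₂, hv₂0, h]; simp
    · rw [← hv₂, hv₂1, h]; simp
  have ht1 : t ≠ 1 := by
    intro h
    apply col_ne_zero g₃
    apply col_ext
    · rw [hv₃0, hv₂0, h]; simp only [one_mul, Pi.zero_apply]; linear_combination (v₁ 0) * two
    · rw [hv₃1, hv₂1, h]; simp only [one_mul, Pi.zero_apply]; linear_combination (v₁ 1) * two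
  have h4 : v₁ + u ≠ 0 := by
    intro h
    have e0 := congrFun h 0
    have e1 := congrFun h 1
    simp only [Pi.add_apply, Pi.zero_apply] at e0 e1
    apply one_ne_zero (α := K)
    rw [← hdet]
    linear_combination (-v₁ 1) * e0 + (v₁ 0) * e1 
  have h5 : v₂ + u ≠ 0 := by
    intro h
    have e0 := congrFun h 0
    have e1 := congrFun h 1
    simp only [Pi.add_apply, Pi.zero_apply] at e0 e1
    apply ht0
    rw [ht]
    linear_combination (-v₂ 1) * e0 + (v₂ 0) * e1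
  obtain ⟨g₄, hg₄⟩ := exists_col h4
  obtain ⟨g₅, hg₅⟩ := exists_col h5
  have addself : ∀ i, u i + u i = 0 := fun i => CharTwo.add_self_eq_zero _
  have T1 : g₁ • y + (g₁ * wm) • y + g₄ • y ∈ Ω := by
    apply rel_indep hN hΩ hy
    · rw [hg₄, ← hu, ← hv₁]
      funext i
      simp only [Pi.add_apply, Pi.zero_apply]
      linear_combination (v₁ i + u i) * two
    · rw [← hu, ← hv₁, hdet]; exact one_ne_zero
  have T2 : g₂ • y + (g₁ * wm) • y + g₅ • y ∈ Ω := by
    apply rel_indep hN hΩ hy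
    · rw [hg₅, ← hu, ← hv₂]
      funext i
      simp only [Pi.add_apply, Pi.zero_apply]
      linear_combination (v₂ i + u i) * two
    · rw [← hu, ← hv₂, ← ht]; exact ht0
  have T3 : g₄ • y + g₅ • y + g₃ • y ∈ Ω := by
    apply rel_indep hN hΩ hy
    · rw [hg₄, hg₅]
      apply col_ext
      · simp only [Pi.add_apply, Pi.zero_apply, hv₃0]
        linear_combination (v₁ 0 + v₂ 0 + u 0) * two
      · simp only [Pi.add_apply, Pi.zero_apply, hv₃1]
        linear_combination (v₁ 1 + v₂ 1 + u 1) * two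
    · rw [hg₄, hg₅]
      simp only [Pi.add_apply]
      intro h
      apply ht1
      have : (v₁ 0 * u 1 - v₁ 1 * u 0) - t = 0 := by
        rw [ht]; linear_combination h - hD
      rw [hdet] at this
      linear_combination -this
  have := Ω.add_mem (Ω.add_mem T1 T2) T3
  have e : g₁ • y + g₂ • y + g₃ • y
      = (g₁ • y + (g₁ * wm) • y + g₄ • y + (g₂ • y + (g₁ * wm) • y + g₅ • y) + (g₄ • y + g₅ • y + g₃ • y))
        - ((g₁ * wm) • y + (g₁ * wm) • y) - (g₄ • y + g₄ • y) - (g₅ • y + g₅ • y) := by abel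
  rw [e]
  exact Ω.sub_mem (Ω.sub_mem (Ω.sub_mem this (h2 _)) (h2 _)) (h2 _)

/-! ### Columns of the explicit elements -/

lemma col_hh {c : K} (hc : c ≠ 0) : col (hh c) = ![c, 0] := by
  apply col_ext
  · rw [col0, hh00 hc]; rfl
  · rw [col1, hh10 hc]; rfl

lemma col_wm : col (wm : SL(2, K)) = ![0, 1] := by
  apply col_ext <;> rfl

lemma col_wm_hh {c : K} (hc : c ≠ 0) : col ((wm : SL(2, K)) * hh c) = ![0, c] := by
  apply col_ext
  · rw [col0, mul00, wm00, wm01, hh10 hc]; simp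
  · rw [col1, mul10, wm10, wm11, hh00 hc, hh10 hc]; simp

lemma col_al_wm (d : K) : col (al d * wm) = ![d, 1] := by
  apply col_ext
  · rw [col0, mul00, wm00, wm10, al00, al01]; simp
  · rw [col1, mul10, wm00, wm10, al10, al11]; simp

section consequences

variable {Ω : AddSubgroup M} {y : M}

/-- Additivity of the scalar action. -/
lemma rel_hh (hN : Norm0 K M) (hΩ : Stable K Ω) (hy : ∀ d : K, (al d : SL(2, K)) • y - y ∈ Ω)
    (h2 : ∀ g : SL(2, K), g • y + g • y ∈ Ω) {c₁ c₂ : K} (h₁ : c₁ ≠ 0) (h₂ : c₂ ≠ 0) (h₁₂ : c₁ + c₂ ≠ 0) :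
    hh c₁ • y + hh c₂ • y + hh (c₁ + c₂) • y ∈ Ω := by
  apply rel hN hΩ hy h2
  rw [col_hh h₁, col_hh h₂, col_hh h₁₂]
  apply col_ext
  · simp only [Pi.add_apply, Matrix.cons_val_zero, Pi.zero_apply]
    linear_combination (c₁ + c₂) * (two_zero (K := K))
  · simp

/-- The action of `al d` on `w y`. -/
lemma rel_al_wm (hN : Norm0 K M) (hΩ : Stable K Ω) (hy : ∀ d : K, (al d : SL(2, K)) • y - y ∈ Ω)
    (h2 : ∀ g : SL(2, K), g • y + g • y ∈ Ω) {d : K} (hd : d ≠ 0) :
    (al d * wm) • y + (wm : SL(2, K)) • y + hh d • y ∈ Ω := by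
  apply rel hN hΩ hy h2
  rw [col_al_wm, col_wm, col_hh hd]
  apply col_ext
  · simp only [Pi.add_apply, Matrix.cons_val_zero, Pi.zero_apply]
    linear_combination d * (two_zero (K := K))
  · simp only [Pi.add_apply, Matrix.cons_val_one, Matrix.cons_val_fin_one, Pi.zero_apply]
    linear_combination (two_zero (K := K))

/-- The action of a general element, generic case. -/
lemma rel_gen (hN : Norm0 K M) (hΩ : Stable K Ω) (hy : ∀ d : K, (al d : SL(2, K)) • y - y ∈ Ω)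
    (h2 : ∀ g : SL(2, K), g • y + g • y ∈ Ω) {g : SL(2, K)} (ha : g.1 0 0 ≠ 0) (hb : g.1 1 0 ≠ 0) :
    g • y + hh (g.1 0 0) • y + ((wm : SL(2, K)) * hh (g.1 1 0)) • y ∈ Ω := by
  apply rel hN hΩ hy h2
  rw [col_hh ha, col_wm_hh hb]
  apply col_ext
  · simp only [col0, Pi.add_apply, Matrix.cons_val_zero, Pi.zero_apply]
    linear_combination (g.1 0 0) * (two_zero (K := K))
  · simp only [col1, Pi.add_apply, Matrix.cons_val_one, Matrix.cons_val_fin_one, Pi.zero_apply]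
    linear_combination (g.1 1 0) * (two_zero (K := K))

lemma rel_col_zero (hΩ : Stable K Ω) (hy : ∀ d : K, (al d : SL(2, K)) • y - y ∈ Ω)
    {g : SL(2, K)} (ha : g.1 0 0 = 0) (hb : g.1 1 0 ≠ 0) :
    g • y - ((wm : SL(2, K)) * hh (g.1 1 0)) • y ∈ Ω := by
  obtain ⟨a, ha'⟩ := eq_mul_al_of_col_eq (g := g) (g' := (wm : SL(2, K)) * hh (g.1 1 0)) (by
    rw [col_wm_hh hb]
    apply col_ext
    · rw [col0, ha]; rfl
    · rw [col1]; rfl)
  have := smul_al_sub_mem hΩ hy ((wm : SL(2, K)) * hh (g.1 1 0)) a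
  rwa [← ha'] at this

lemma rel_col_one (hΩ : Stable K Ω) (hy : ∀ d : K, (al d : SL(2, K)) • y - y ∈ Ω)
    {g : SL(2, K)} (ha : g.1 0 0 ≠ 0) (hb : g.1 1 0 = 0) :
    g • y - hh (g.1 0 0) • y ∈ Ω := by
  obtain ⟨a, ha'⟩ := eq_mul_al_of_col_eq (g := g) (g' := hh (g.1 0 0)) (by
    rw [col_hh ha]
    apply col_ext
    · rw [col0]; rfl
    · rw [col1, hb]; rfl)
  have := smul_al_sub_mem hΩ hy (hh (g.1 0 0)) a
  rwa [← ha'] at this

end consequences

/-- Fixed points modulo a subgroup: `S` is a two-group. -/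
lemma exists_fixed_mod {Ω₀ Ω₁ : AddSubgroup M} (st₀ : Stable K Ω₀) (st₁ : Stable K Ω₁)
    (two₁ : ∀ z ∈ Ω₁, z + z ∈ Ω₀) {m₀ : M} (h₁ : m₀ ∈ Ω₁) (h₀ : m₀ ∉ Ω₀) :
    ∃ m ∈ Ω₁, m ∉ Ω₀ ∧ ∀ d : K, (al d : SL(2, K)) • m - m ∈ Ω₀ := by
  classical
  have : Fintype K := Fintype.ofFinite K
  have key : ∀ D : Finset K, ∃ m ∈ Ω₁, m ∉ Ω₀ ∧ ∀ d ∈ D, (al d : SL(2, K)) • m - m ∈ Ω₀ := by
    intro D
    induction D using Finset.induction_on with
    | empty => exact ⟨m₀, h₁, h₀, by simp⟩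
    | insert d D _ ih =>
      obtain ⟨m, hm₁, hm₀, hm⟩ := ih
      by_cases hP : (al d : SL(2, K)) • m - m ∈ Ω₀
      · refine ⟨m, hm₁, hm₀, ?_⟩
        intro d' hd'
        rcases Finset.mem_insert.mp hd' with rfl | hd'
        · exact hP
        · exact hm d' hd'
      · refine ⟨(al d : SL(2, K)) • m - m, Ω₁.sub_mem (st₁ _ _ hm₁) hm₁, hP, ?_⟩
        intro d' hd'
        rcases Finset.mem_insert.mp hd' with rfl | hd'
        · have e : (al d' : SL(2, K)) • ((al d' : SL(2, K)) • m - m) - ((al d' : SL(2, K)) • m - m)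
              = -(((al d' : SL(2, K)) • m - m) + ((al d' : SL(2, K)) • m - m)) := by
            rw [smul_sub, ← mul_smul, al_sq, one_smul]; abel
          rw [e]
          exact Ω₀.neg_mem (two₁ _ (Ω₁.sub_mem (st₁ _ _ hm₁) hm₁))
        · have e : (al d' : SL(2, K)) • ((al d : SL(2, K)) • m - m) - ((al d : SL(2, K)) • m - m)
              = (al d : SL(2, K)) • ((al d' : SL(2, K)) • m - m) - ((al d' : SL(2, K)) • m - m) := by
            have c : (al d' : SL(2, K)) * al d = al d * al d' := by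
              rw [al_add, al_add, add_comm]
            simp only [smul_sub, ← mul_smul, c]
            abel
          rw [e]
          exact Ω₀.sub_mem (st₀ _ _ (hm d' hd')) (hm d' hd')
  obtain ⟨m, hm₁, hm₀, hm⟩ := key Finset.univ
  exact ⟨m, hm₁, hm₀, fun d => hm d (Finset.mem_univ d)⟩

end Cfsg.Agent.Lib.SL2Fpf.Rel
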